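import Cfsg.Agent.Lib.Blocks.FreeColumns.Glue
import Cfsg.Agent.Lib.Blocks.CyclicSections

/-!
# The columns of a block with abelian defect group and free inertial action
-/

set_option autoImplicit false
set_option linter.style.haveILetI false
set_option linter.unusedSectionVars false

namespace CfsgLib.FreeColumns

open Cfsg CfsgLib.Chars CfsgLib.Blocks CfsgLib.BlockOrth Finset
open scoped ComplexConjugate

universe u

variable {G : Type u} [Group G] [Fintype G] {M : Ideal AlgInt} [M.IsPrime] {p : ℕ} [Fact p.Prime]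
  {B : Set (IrrCharacter G)} {P : Subgroup G}
  {c : Set (IrrCharacter (Subgroup.centralizer (P : Set G)))}

theorem inertia_eq_one_of_fixed [Fintype (Subgroup.centralizer (P : Set G))]
    (hfree : ∀ g ∈ stabPair ⟨P, c⟩, ∀ x ∈ P, x ≠ 1 → g * x * g⁻¹ = x →
      g ∈ Subgroup.centralizer (P : Set G)) :
    ∀ σ ∈ inertia c, ∀ u : P, u ≠ 1 → σ u = u → σ = 1 := by
  intro σ hσ u hu hσu
  obtain ⟨g, hg, hgu⟩ := mem_inertia.1 hσ
  have h2 := hfree g hg u u.2 (fun h => hu (Subtype.ext h)) (by rw [← hgu, hσu])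
  refine MulEquiv.ext fun z => Subtype.ext ?_
  rw [hgu, ← Subgroup.mem_centralizer_iff.1 h2 z z.2, mul_inv_cancel_right]
  rfl

open scoped Classical in
/-- **The columns**: generalized characters of the defect group describing the sections. -/
theorem exists_free_columns (hM : IsPModular p M) (hmax : IsMaximalBrauerPair p M B P c)
    (hab : ∀ x ∈ P, ∀ y ∈ P, x * y = y * x)
    (hfree : ∀ g ∈ stabPair ⟨P, c⟩, ∀ x ∈ P, x ≠ 1 → g * x * g⁻¹ = x →
      g ∈ Subgroup.centralizer (P : Set G)) (hP1 : P ≠ ⊥) [Fintype P]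
    [Fintype {χ : IrrCharacter G // χ ∈ B}] :
    ∃ ξ : {χ : IrrCharacter G // χ ∈ B} → P → ℂ,
      (∀ i, IsGeneralizedCharacter P (ξ i)) ∧
      (∀ u v : P, u ≠ 1 → v ≠ 1 → ∑ i, ξ i u * conj (ξ i v) = (Nat.card P : ℂ) *
        ((univ.filter fun σ : inertia c => (σ : MulAut P) u = v).card : ℂ)) ∧
      (∀ i, ∀ u : P, u ≠ 1 → ξ i u ≠ 0) ∧
      ∀ u : P, u ≠ 1 → ∑ i, (i.1 : G → ℂ) 1 * ξ i u = 0 := by
  have hp : p.Prime := Fact.out
  have hpM := hM.2.2
  have hc : IsBrauerPair p M P c := hmax.1.1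
  have hB : IsPBlock M B := hmax.1.2.1
  have hP : IsPGroup p P := hc.1
  have hA : ∀ a a' : P, a * a' = a' * a := fun a a' => Subtype.ext (hab a a.2 a' a'.2)
  haveI hFT : ∀ H : Subgroup G, Fintype H := fun H => Fintype.ofFinite H
  haveI := irrFintype G
  haveI : Nontrivial P := (Subgroup.nontrivial_iff_ne_bot P).2 hP1
  choose b hb using fun u : P =>
    exists_below (b := ⟨P, c⟩) hpM hc _ (Subgroup.zpowers_le.2 u.2)
  haveI := fun u : P => irrFintype (Subgroup.centralizer (Subgroup.zpowers (u : G) : Set G))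
  have hbblock : ∀ u : P, IsPBlock M (b u) := fun u => (below_isBrauerPair (hb u) hc).2
  choose η hη using fun u : P => Blocks.IsPBlock.nonempty (hbblock u)
  have hne1 : ∀ u : P, u ≠ 1 → Subgroup.zpowers (u : G) ≠ ⊥ := fun u hu h =>
    hu (Subtype.ext (Subgroup.zpowers_eq_bot.1 h))
  have hU : ∀ u : P, u ≠ 1 → IsUniformBlock M p (b u) (Nat.card P) := fun u hu =>
    isUniformBlock_below hM hmax hab hfree (hne1 u hu) (hb u)
  have hH : ∀ u : P, ∀ a : G, a ∈ Subgroup.centralizer (Subgroup.zpowers (u : G) : Set G) ↔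
      a * (u : G) = (u : G) * a := fun u a => mem_centralizer_zpowers_iff _ a
  obtain ⟨δ, hδ⟩ : ∃ δ : P → ℕ,
      ∀ u, (η u : Subgroup.centralizer (Subgroup.zpowers (u : G) : Set G) → ℂ) 1 = δ u :=
    ⟨_, fun u => irr_apply_one (η u)⟩
  have hδ0 : ∀ u, (δ u : ℂ) ≠ 0 := fun u => hδ u ▸ irr_degree_ne_zero (η u).2
  obtain ⟨sc, hsc⟩ : ∃ sc : P → IrrCharacter G → ℂ,
      sc = fun (u : P) (χ : IrrCharacter G) => secCoef (b u) (u : G) (χ : G → ℂ) := ⟨_, rfl⟩
  have hscint : ∀ u χ, IsIntegral ℤ (sc u χ) := fun u χ => hsc ▸ secCoef_isIntegral (hH u) χ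
  have hbu : ∀ u : P, (⟨Subgroup.zpowers (u : G), b u⟩ : BrauerPairIdx G) =
      pairBelow p M ⟨P, c⟩ (u : G) := fun u =>
    eq_pairBelow (c := (⟨P, c⟩ : BrauerPairIdx G)) hpM hc (hb u) rfl
  have hsv : ∀ u : P, u ≠ 1 → ∀ χ : IrrCharacter G,
      secVal (pairBelow p M ⟨P, c⟩ (u : G)) (χ : G → ℂ) (u : G) = sc u χ * (δ u : ℂ) := by
    intro u hu χ
    rw [← hbu u]
    have h := secVal_eq_blockPart (x := (u : G)) (b := b u) (isClassFunction_irr χ)
      (1 : Subgroup.centralizer (Subgroup.zpowers (u : G) : Set G))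
    rw [Subgroup.coe_one, mul_one] at h
    rw [h, (hU u hu).blockPart_regular _ (hη u) (by simp [hp.ne_one]), hδ, hsc]
    rfl
  -- orthogonality
  have hraw : ∀ u v : P, u ≠ 1 → v ≠ 1 →
      (∑ i : {χ : IrrCharacter G // χ ∈ B}, sc u i.1 * conj (sc v i.1)) * ((δ u : ℂ) * δ v) =
      ((univ.filter fun g : G => g * (u : G) * g⁻¹ = v ∧
          conjPair g (pairBelow p M ⟨P, c⟩ (u : G)) = pairBelow p M ⟨P, c⟩ (v : G)).card : ℂ) *
        ((Nat.card (Subgroup.centralizer (Subgroup.zpowers (u : G) : Set G)) : ℂ)⁻¹ *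
          ((Nat.card P : ℂ) * (δ u : ℂ) ^ 2)) := by
    intro u v hu hv
    have h := sum_secVal_pairBelow hpM hmax u.2 v.2
    rw [Finset.sum_subtype (p := (· ∈ B)) (univ.filter (· ∈ B)) (fun x => by simp)] at h
    have e : pairCoeff (pairBelow p M ⟨P, c⟩ (u : G)) 1 =
        (Nat.card (Subgroup.centralizer (Subgroup.zpowers (u : G) : Set G)) : ℂ)⁻¹ *
          ((Nat.card P : ℂ) * (δ u : ℂ) ^ 2) := by
      rw [← hbu u, show pairCoeff (⟨Subgroup.zpowers (u : G), b u⟩ : BrauerPairIdx G) 1 =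
        blockCoeff (b u) 1 from subgroupBlockCoeff_coe (b u) 1,
        (hU u hu).blockCoeff_one (hη u), hδ]
    rw [e] at h
    rw [← h, Finset.sum_mul]
    refine Finset.sum_congr rfl fun i _ => ?_
    rw [hsv u hu, hsv v hv, map_mul, map_natCast]
    ring
  have hdiag : ∀ u : P, u ≠ 1 →
      ∑ i : {χ : IrrCharacter G // χ ∈ B}, sc u i.1 * conj (sc u i.1) = (Nat.card P : ℂ) := by
    intro u hu
    have h := hraw u u hu hu
    rw [card_conj_pairBelow (g₀ := 1) hpM hc u.2 (by simp) (conjPair_one _),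
      mul_inv_cancel_left₀ (Nat.cast_ne_zero.2 Nat.card_pos.ne'), ← sq] at h
    exact mul_right_cancel₀ (pow_ne_zero 2 (hδ0 u)) h
  -- invariance under the inertial group
  have hσ1 : ∀ (σ : inertia c) (u : P), u ≠ 1 → (σ : MulAut P) u ≠ 1 := fun σ u hu h =>
    hu ((σ : MulAut P).injective (by rw [h, map_one]))
  have hkey : ∀ (σ : inertia c) (u : P), ∃ g, g * (u : G) * g⁻¹ = ((σ : MulAut P) u : G) ∧
      conjPair g (pairBelow p M ⟨P, c⟩ (u : G)) =
        pairBelow p M ⟨P, c⟩ ((σ : MulAut P) u : G) := by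
    intro σ u
    obtain ⟨g, hg, hgu⟩ := mem_inertia.1 σ.2
    refine ⟨g, (hgu u).symm, eq_pairBelow (c := (⟨P, c⟩ : BrauerPairIdx G)) hpM hc ?_ ?_⟩
    · have h := below_conj (pairBelow_below (c := ⟨P, c⟩) hpM hc u.2) g
      rwa [show conjPair g (⟨P, c⟩ : BrauerPairIdx G) = ⟨P, c⟩ from hg] at h
    · show (pairBelow p M ⟨P, c⟩ (u : G)).1.map _ = _
      rw [pairBelow_fst, map_zpowers_conj, hgu]
  have hscinv : ∀ (σ : inertia c) (u : P), u ≠ 1 → ∀ i : {χ : IrrCharacter G // χ ∈ B},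
      sc ((σ : MulAut P) u) i.1 = sc u i.1 := by
    intro σ u hu
    obtain ⟨g, hg, hg'⟩ := hkey σ u
    have hrel : ∀ i : {χ : IrrCharacter G // χ ∈ B},
        sc ((σ : MulAut P) u) i.1 * (δ ((σ : MulAut P) u) : ℂ) = sc u i.1 * (δ u : ℂ) := fun i => by
      rw [← hsv _ (hσ1 σ u hu), ← hsv u hu, ← hg', ← hg, secVal_conj (isClassFunction_irr i.1)]
    have hsq : (δ ((σ : MulAut P) u) : ℂ) ^ 2 = (δ u : ℂ) ^ 2 := by
      refine mul_left_cancel₀ (Nat.cast_ne_zero.2 (Nat.card_pos (α := P)).ne') ?_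
      conv_lhs => rw [← hdiag _ (hσ1 σ u hu)]
      conv_rhs => rw [← hdiag u hu]
      rw [Finset.sum_mul, Finset.sum_mul]
      refine Finset.sum_congr rfl fun i _ => ?_
      have h1 := hrel i
      have h2 := congrArg conj h1
      rw [map_mul, map_mul, map_natCast, map_natCast] at h2
      linear_combination (conj (sc ((σ : MulAut P) u) i.1) * (δ ((σ : MulAut P) u) : ℂ)) * h1 +
        (sc u i.1 * (δ u : ℂ)) * h2
    have heq : δ ((σ : MulAut P) u) = δ u := Nat.pow_left_injective two_ne_zero (by exact_mod_cast hsq)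
    intro i
    have h := hrel i
    rw [heq] at h
    exact mul_right_cancel₀ (hδ0 u) h
  -- subsections
  have hind : ∀ u : P, IsInducedBlock M (Subgroup.centralizer (Subgroup.zpowers (u : G) : Set G))
      (b u) B := fun u =>
    isInducedBlock_centralizer_of_pair hpM ((isBrauerPairOf_iff_of_below hpM (hb u) B).2 hmax.1)
  have hord : ∀ u : P, ∃ k, orderOf (u : G) = p ^ k := fun u => exists_pow_orderOf_of_mem hP u.2
  have hmaj : ∀ u : P, u ≠ 1 → blockDefect p (b u) = blockDefect p B := fun u hu =>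
    Nat.pow_right_injective hp.two_le ((hU u hu).pow.trans
      (card_defectGroup hpM hB (isDefectGroup_of_maximal hpM hmax)))
  obtain ⟨j₀, hj₀, hj0⟩ := exists_blockHeight_eq_zero (p := p) hB
  have hscne : ∀ u : P, u ≠ 1 → ∀ i : {χ : IrrCharacter G // χ ∈ B}, sc u i.1 ≠ 0 := by
    intro u hu i h0
    refine contrib_ne_zero_of_height_zero hpM (hH u) (hord u) (hind u) (hmaj u hu) i.2 hj₀ hj0 ?_
    rw [contrib_eq_secCoef hpM (hU u hu)]
    simp only [hsc] at h0
    rw [h0, zero_mul]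
  have hscunit : ∀ u : P, u ≠ 1 → ¬ MemLocalIdeal M (sc u j₀) := by
    intro u hu hmem
    refine not_memLocalIdeal_contrib hpM (hH u) (hord u) (hind u) hj₀ hj₀
      ((blockHeight_eq_zero_iff hj₀).1 hj0) ((blockHeight_eq_zero_iff hj₀).1 hj0) ?_
    rw [contrib_eq_secCoef hpM (hU u hu)]
    simp only [hsc] at hmem
    exact MemLocalIdeal.mul_right' hmem
      (isIntegral_mem_loc (map_isIntegral_int (starRingEnd ℂ) (secCoef_isIntegral (hH u) j₀)))
  -- the twist
  obtain ⟨s, hsroot, hgens⟩ := exists_unit_twist hM hmax hab hfree hP1 b hb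
  choose g hg hgval using hgens
  replace hgval : ∀ χ, ∀ u : P, u ≠ 1 → g χ u = sc u χ * s u := fun χ u hu => by
    rw [hgval χ u hu, hsc]
  have hs0 : ∀ u, s u ≠ 0 := fun u h => by
    have := root_mul_conj (hsroot u)
    rw [h, zero_mul] at this
    exact zero_ne_one this
  have hgunit : ∀ u, ¬ MemLocalIdeal M (g j₀ u) := by
    have hne : ∀ u, u ≠ 1 → ¬ MemLocalIdeal M (g j₀ u) := fun u hu => by
      rw [hgval _ u hu]
      exact not_mem_mul (isIntegral_mem_loc (hscint u j₀))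
        (isIntegral_mem_loc (root_isIntegral (hsroot u))) (hscunit u hu)
        (not_mem_of_norm_one (root_isIntegral (hsroot u)) (root_mul_conj (hsroot u)))
    intro u
    by_cases hu : u = 1
    · subst hu
      obtain ⟨v, hv⟩ := exists_ne (1 : P)
      intro hmem
      have h := MemLocalIdeal.add' (gen_congr_one hpM hP (hg j₀) v) hmem
      rw [sub_add_cancel] at h
      exact hne v hv h
    · exact hne u hu
  obtain ⟨x, hx⟩ : ∃ x : inertia c → P → ℂ,
      x = fun (σ : inertia c) (u : P) => s ((σ : MulAut P) u) * (s u)⁻¹ := ⟨_, rfl⟩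
  have hxroot : ∀ σ u, ∃ n : ℕ, 0 < n ∧ x σ u ^ n = 1 := fun σ u => by
    rw [hx]; exact root_mul (hsroot _) (root_inv (hsroot u))
  have hxp : ∀ σ u, ∃ a : ℕ, u ≠ 1 → x σ u ^ p ^ a = 1 := by
    intro σ u
    by_cases hu : u = 1
    · exact ⟨0, fun h => absurd hu h⟩
    obtain ⟨a, ha⟩ := exists_ppow_eq_one hpM (hxroot σ u) (by
      have h := MemLocalIdeal.sub' (gen_congr_one hpM hP (hg j₀) ((σ : MulAut P) u))
        (gen_congr_one hpM hP (hg j₀) u)
      rw [sub_sub_sub_cancel_right, hgval _ _ (hσ1 σ u hu), hgval _ u hu,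
        hscinv σ u hu ⟨j₀, hj₀⟩, ← mul_sub] at h
      have h' : MemLocalIdeal M (s ((σ : MulAut P) u) - s u) :=
        (MemLocalIdeal.mem_or_mem (isIntegral_mem_loc (hscint u j₀))
          (sub_mem (isIntegral_mem_loc (root_isIntegral (hsroot _)))
            (isIntegral_mem_loc (root_isIntegral (hsroot u)))) h).resolve_left (hscunit u hu)
      have h2 := MemLocalIdeal.mul_right' h'
        (isIntegral_mem_loc (root_isIntegral (root_inv (hsroot u))))
      rwa [sub_mul, mul_inv_cancel₀ (hs0 u), ← show x σ u = s ((σ : MulAut P) u) * (s u)⁻¹ by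
        rw [hx]] at h2)
    exact ⟨a, fun _ => ha⟩
  choose av hav using hxp
  haveI : Fintype (inertia c) := Fintype.ofFinite _
  obtain ⟨a₀, ha₀⟩ : ∃ a₀ : ℕ, a₀ =
      (univ.sup fun q : inertia c × P => av q.1 q.2) + 1 := ⟨_, rfl⟩
  have hxa : ∀ σ u, u ≠ 1 → x σ u ^ p ^ a₀ = 1 := fun σ u hu => by
    have hle : av σ u ≤ a₀ := by
      have := Finset.le_sup (f := fun q : inertia c × P => av q.1 q.2) (mem_univ (σ, u))
      rw [ha₀]
      exact this.trans (Nat.le_succ _)
    obtain ⟨j, hj⟩ := Nat.exists_eq_add_of_le hle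
    rw [hj, pow_add, pow_mul, hav σ u hu, one_pow]
  obtain ⟨d, hd⟩ : ∃ d : ℕ, (Fintype.card (inertia c) * d) % p ^ a₀ = 1 := by
    obtain ⟨t, ht, -⟩ := card_eq_rank_add_sections hM hmax hab hfree
    rw [← card_inertia, Nat.card_eq_fintype_card (α := inertia c)] at ht
    obtain ⟨k, hk⟩ := IsPGroup.iff_card.1 hP
    have hk0 : k ≠ 0 := fun h => hP1 (Subgroup.card_eq_one.1 (by rw [hk, h, pow_zero]))
    have hpe : ¬ p ∣ Fintype.card (inertia c) := fun h => hp.not_dvd_one
      ((Nat.dvd_add_right (Dvd.dvd.mul_left h t)).1 (ht ▸ hk ▸ dvd_pow_self p hk0))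
    obtain ⟨d, -, hd⟩ := Nat.exists_mul_mod_eq_one_of_coprime
      (k := p ^ a₀) (n := Fintype.card (inertia c))
      (Nat.Coprime.pow_right a₀ (Nat.coprime_comm.1 (hp.coprime_iff_not_dvd.2 hpe)))
      (Nat.one_lt_pow (by omega) hp.one_lt)
    exact ⟨d, hd⟩
  have hxed : ∀ σ u, u ≠ 1 → x σ u ^ (Fintype.card (inertia c) * d) = x σ u := fun σ u hu => by
    rw [← Nat.div_add_mod (Fintype.card (inertia c) * d) (p ^ a₀), hd, pow_add, pow_mul,
      hxa σ u hu, one_pow, one_mul, pow_one]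
  obtain ⟨t, ht⟩ : ∃ t : P → ℂ, t = fun u => s u * (∏ σ : inertia c, x σ u) ^ d := ⟨_, rfl⟩
  have htroot : ∀ u, ∃ n : ℕ, 0 < n ∧ t u ^ n = 1 := fun u => by
    rw [ht]; exact root_mul (hsroot u) (root_pow (root_prod _ fun σ _ => hxroot σ u) d)
  have htinv : ∀ (τ : inertia c) (u : P), u ≠ 1 → t ((τ : MulAut P) u) = t u := by
    intro τ u hu
    have h1 : ∀ σ : inertia c, x σ ((τ : MulAut P) u) * x τ u = x (σ * τ) u := fun σ => by
      simp only [hx, Subgroup.coe_mul, MulAut.mul_apply]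
      field_simp [hs0]
    have h2 : (∏ σ : inertia c, x σ ((τ : MulAut P) u)) * x τ u ^ Fintype.card (inertia c) =
        ∏ σ : inertia c, x σ u := by
      rw [← Finset.card_univ, ← Finset.prod_const, ← Finset.prod_mul_distrib,
        Finset.prod_congr rfl fun σ _ => h1 σ]
      exact Fintype.prod_equiv (Equiv.mulRight τ) _ _ fun σ => rfl
    have h3 : s ((τ : MulAut P) u) = x τ u * s u := by
      simp only [hx]
      field_simp [hs0]
    have hx0 : x τ u ≠ 0 := fun h => by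
      have := root_mul_conj (hxroot τ u)
      rw [h, zero_mul] at this
      exact zero_ne_one this
    simp only [ht]
    rw [← h2, mul_pow, ← pow_mul, hxed τ u hu, h3]
    ring
  -- the columns
  have hcols : ∀ i : {χ : IrrCharacter G // χ ∈ B}, ∃ f : P → ℂ, IsGeneralizedCharacter P f ∧
      ∀ u, u ≠ 1 → f u = sc u i.1 * t u := by
    intro i
    have hloc : IsLocGen p fun u : P =>
        g i.1 u * (∏ σ : inertia c, g j₀ ((σ : MulAut P) u) * (g j₀ u)⁻¹) ^ d :=
      (IsLocGen.of_gen (hg i.1)).mul (IsLocGen.pow (IsLocGen.prod univ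
        (f := fun (σ : inertia c) (u : P) => g j₀ ((σ : MulAut P) u) * (g j₀ u)⁻¹) fun σ _ =>
        (IsLocGen.of_gen (isGen_comp (σ : MulAut P).toMonoidHom (hg j₀))).mul
          (IsLocGen.inv hpM hA (hg j₀) hgunit)) d)
    have hval : ∀ u : P, u ≠ 1 →
        g i.1 u * (∏ σ : inertia c, g j₀ ((σ : MulAut P) u) * (g j₀ u)⁻¹) ^ d = sc u i.1 * t u := by
      intro u hu
      rw [Finset.prod_congr rfl (g := fun σ => x σ u) fun σ _ => by
        rw [hgval _ _ (hσ1 σ u hu), hgval _ u hu, hscinv σ u hu ⟨j₀, hj₀⟩]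
        simp only [hx]
        have := hscne u hu ⟨j₀, hj₀⟩
        have := hs0 u
        field_simp, hgval _ u hu, ht]
      ring
    obtain ⟨f, hf, hfv⟩ := hloc.exists_gen hP hA fun u hu => by
      rw [hval u hu]
      exact (hscint u i.1).mul (root_isIntegral (htroot u))
    exact ⟨f, hf, fun u hu => (hfv u hu).trans (hval u hu)⟩
  choose ξ hξ hξval using hcols
  refine ⟨ξ, hξ, fun u v hu hv => ?_, fun i u hu => ?_, fun u hu => ?_⟩
  · rw [Finset.sum_congr rfl (g := fun i : {χ : IrrCharacter G // χ ∈ B} =>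
      (t u * conj (t v)) * (sc u i.1 * conj (sc v i.1))) (fun i _ => by
        rw [hξval i u hu, hξval i v hv, map_mul]; ring), ← Finset.mul_sum]
    by_cases hex : ∃ σ : inertia c, (σ : MulAut P) u = v
    · obtain ⟨σ₀, rfl⟩ := hex
      rw [Finset.sum_congr rfl fun i _ => by rw [hscinv σ₀ u hu i], hdiag u hu, htinv σ₀ u hu,
        root_mul_conj (htroot u), one_mul]
      have hone : ∀ S : Finset (inertia c),
          (∀ σ, σ ∈ S ↔ (σ : MulAut P) u = (σ₀ : MulAut P) u) → S.card = 1 := by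
        intro S hS
        refine Finset.card_eq_one.2 ⟨σ₀, Finset.eq_singleton_iff_unique_mem.2
          ⟨(hS _).2 rfl, fun σ hσ => ?_⟩⟩
        have h1 : ((σ₀⁻¹ * σ : inertia c) : MulAut P) u = u := by
          rw [Subgroup.coe_mul, Subgroup.coe_inv, MulAut.mul_apply, (hS _).1 hσ,
            MulAut.inv_apply_self]
        exact (inv_mul_eq_one.1 (Subtype.ext
          (inertia_eq_one_of_fixed hfree _ (σ₀⁻¹ * σ).2 u hu h1))).symm
      rw [hone _ fun σ => by simp, Nat.cast_one, mul_one]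
    · rw [Finset.filter_false_of_mem fun σ _ hσ => hex ⟨σ, hσ⟩, Finset.card_empty, Nat.cast_zero,
        mul_zero]
      refine mul_eq_zero_of_right _ ((mul_eq_zero.1 ?_).resolve_right
        (mul_ne_zero (hδ0 u) (hδ0 v)))
      rw [hraw u v hu hv]
      refine mul_eq_zero_of_left ?_ _
      rw [Nat.cast_eq_zero, Finset.card_eq_zero, Finset.filter_eq_empty_iff]
      rintro g₀ - ⟨hg₀, hg₀'⟩
      obtain ⟨w, hw, hwT⟩ := exists_centralizer_conj_of_below hpM hmax hab (hb u) (x := g₀⁻¹) (by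
        have h1 := below_conj (pairBelow_below (c := ⟨P, c⟩) hpM hc v.2) g₀⁻¹
        rwa [← hg₀', conjPair_mul, inv_mul_cancel, conjPair_one, ← hbu u] at h1)
      have hT : g₀ * w⁻¹ ∈ stabPair ⟨P, c⟩ := by
        have := inv_mem hwT
        rwa [mul_inv_rev, inv_inv] at this
      have hwu : g₀ * w⁻¹ * (u : G) * (g₀ * w⁻¹)⁻¹ = v := by
        have h1 := Subgroup.mem_centralizer_iff.1 hw (u : G) (Subgroup.mem_zpowers _)
        calc g₀ * w⁻¹ * (u : G) * (g₀ * w⁻¹)⁻¹ = g₀ * (w⁻¹ * ((u : G) * w)) * g₀⁻¹ := by group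
          _ = g₀ * (w⁻¹ * (w * (u : G))) * g₀⁻¹ := by rw [h1]
          _ = v := by rw [inv_mul_cancel_left, hg₀]
      exact hex ⟨⟨P.normalizerMonoidHom ⟨_, stabPair_le_normalizer _ hT⟩,
        ⟨⟨_, stabPair_le_normalizer _ hT⟩, hT, rfl⟩⟩, Subtype.ext hwu⟩
  · rw [hξval i u hu]
    exact mul_ne_zero (hscne u hu i) fun h => by
      have := root_mul_conj (htroot u)
      rw [h, zero_mul] at this
      exact zero_ne_one this
  · rw [Finset.sum_congr rfl (g := fun i : {χ : IrrCharacter G // χ ∈ B} =>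
      (t u / δ u) * ((i.1 : G → ℂ) 1 * secVal (pairBelow p M ⟨P, c⟩ (u : G)) (i.1 : G → ℂ) (u : G)))
      (fun i _ => by
        rw [hξval i u hu, hsv u hu]
        have := hδ0 u
        field_simp), ← Finset.mul_sum]
    refine mul_eq_zero_of_right _ ?_
    simp only [secVal, Finset.mul_sum]
    rw [Finset.sum_comm]
    refine Finset.sum_eq_zero fun y _ => ?_
    rw [← hbu u]
    by_cases h0 : pairCoeff (⟨Subgroup.zpowers (u : G), b u⟩ : BrauerPairIdx G) y = 0
    · simp [h0]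
    have hyC : y ∈ Subgroup.centralizer (Subgroup.zpowers (u : G) : Set G) :=
      by_contra fun h => h0 (subgroupBlockCoeff_of_notMem _ h)
    have hyr : ¬ p ∣ orderOf y := fun hd => h0 (by
      rw [pairCoeff, show subgroupBlockCoeff (Subgroup.centralizer (Subgroup.zpowers (u : G) : Set G))
        (b u) y = blockCoeff (b u) ⟨y, hyC⟩ from subgroupBlockCoeff_coe _ ⟨y, hyC⟩]
      exact blockCoeff_eq_zero_of_dvd hp hpM (hbblock u) (by rwa [← Subgroup.orderOf_coe]))
    have hcm : Commute (u : G) y := ((hH u y).1 hyC).symm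
    have hd : p ∣ orderOf (y * (u : G))⁻¹ := by
      obtain ⟨k, hk⟩ := hord u
      have hk0 : k ≠ 0 := fun h => hu (Subtype.ext (orderOf_eq_one_iff.1 (by rw [hk, h, pow_zero])))
      rw [orderOf_inv, ← hcm.eq, hcm.orderOf_mul_eq_mul_orderOf_of_coprime
        (hk ▸ Nat.Coprime.pow_left k (hp.coprime_iff_not_dvd.2 hyr)), hk]
      exact Dvd.dvd.mul_right (dvd_pow_self p hk0) _
    have h := weak_orthogonality hp hpM hB (x := 1) (by simp [hp.ne_one]) hd
    rw [finsum_mem_eq_sum_of_inter_support_eq (t := univ.filter (· ∈ B)) _ (by ext; simp),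
      Finset.sum_subtype (p := (· ∈ B)) (univ.filter (· ∈ B)) (fun x => by simp)] at h
    rw [← mul_zero (pairCoeff (⟨Subgroup.zpowers (u : G), b u⟩ : BrauerPairIdx G) y), ← h,
      Finset.mul_sum]
    refine Finset.sum_congr rfl fun χ _ => ?_
    rw [← char_inv (isCharacter_of_irr χ.1.2), inv_inv]
    ring

end CfsgLib.FreeColumns
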