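import Cfsg.Agent.Lib.Blocks.FreeColumns.Idem
import Cfsg.Agent.Lib.Blocks.StarChar

/-!
# Gluing the local traces

The twisted traces of the source idempotent are characters of the defect group; dividing by a
product of the local ones gives generalized characters which are, up to roots of unity, the
section coefficients of the block.
-/

set_option autoImplicit false
set_option linter.style.haveILetI false
set_option linter.unusedSectionVars false

namespace CfsgLib.FreeColumns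

open Cfsg CfsgLib.Chars CfsgLib.Blocks CfsgLib.BlockOrth Finset
open scoped ComplexConjugate

universe u

variable {G : Type u} [Group G] [Fintype G] {M : Ideal AlgInt} [M.IsPrime] {p : ℕ} [Fact p.Prime]
  {B : Set (IrrCharacter G)} {P : Subgroup G}
  {c : Set (IrrCharacter (Subgroup.centralizer (P : Set G)))}

theorem root_isIntegral {z : ℂ} (hz : ∃ n : ℕ, 0 < n ∧ z ^ n = 1) : IsIntegral ℤ z := by
  obtain ⟨n, hn, h⟩ := hz
  exact IsIntegral.of_pow hn (by rw [h]; exact isIntegral_one)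

theorem root_mul_conj {z : ℂ} (hz : ∃ n : ℕ, 0 < n ∧ z ^ n = 1) : z * conj z = 1 := by
  obtain ⟨n, hn, h⟩ := hz
  rw [Complex.mul_conj', Complex.norm_eq_one_of_pow_eq_one h hn.ne']
  norm_num

theorem root_mul {z w : ℂ} (hz : ∃ n : ℕ, 0 < n ∧ z ^ n = 1) (hw : ∃ n : ℕ, 0 < n ∧ w ^ n = 1) :
    ∃ n : ℕ, 0 < n ∧ (z * w) ^ n = 1 := by
  obtain ⟨n, hn, h⟩ := hz
  obtain ⟨m, hm, h'⟩ := hw
  exact ⟨n * m, Nat.mul_pos hn hm, by rw [mul_pow, pow_mul, h, mul_comm n m, pow_mul w, h']; simp⟩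

theorem root_inv {z : ℂ} (hz : ∃ n : ℕ, 0 < n ∧ z ^ n = 1) : ∃ n : ℕ, 0 < n ∧ z⁻¹ ^ n = 1 := by
  obtain ⟨n, hn, h⟩ := hz
  exact ⟨n, hn, by rw [inv_pow, h, inv_one]⟩

theorem root_pow {z : ℂ} (hz : ∃ n : ℕ, 0 < n ∧ z ^ n = 1) (k : ℕ) :
    ∃ n : ℕ, 0 < n ∧ (z ^ k) ^ n = 1 := by
  obtain ⟨n, hn, h⟩ := hz
  exact ⟨n, hn, by rw [← pow_mul, mul_comm, pow_mul, h, one_pow]⟩

theorem root_zpow {z : ℂ} (hz : ∃ n : ℕ, 0 < n ∧ z ^ n = 1) (k : ℤ) :
    ∃ n : ℕ, 0 < n ∧ (z ^ k) ^ n = 1 := by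
  obtain ⟨j, rfl | rfl⟩ := k.eq_nat_or_neg
  · rw [zpow_natCast]; exact root_pow hz j
  · rw [zpow_neg, zpow_natCast]; exact root_inv (root_pow hz j)

theorem root_prod {ι : Type*} (s : Finset ι) {f : ι → ℂ}
    (h : ∀ i ∈ s, ∃ n : ℕ, 0 < n ∧ f i ^ n = 1) : ∃ n : ℕ, 0 < n ∧ (∏ i ∈ s, f i) ^ n = 1 :=
  Finset.prod_induction f (fun z => ∃ n : ℕ, 0 < n ∧ z ^ n = 1) (fun _ _ => root_mul)
    ⟨1, one_pos, one_pow 1⟩ h

/-- An integral Möbius weight on the nontrivial subgroups below `P`. -/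
theorem exists_weight (P : Subgroup G) [Fintype (Subgroup G)] [DecidableRel ((· ≤ ·) : Subgroup G → Subgroup G → Prop)]
    [DecidableEq (Subgroup G)] :
    ∃ cf : Subgroup G → ℤ, ∀ W : Subgroup G, W ≤ P → W ≠ ⊥ →
      ∑ Q ∈ (univ.filter fun Q : Subgroup G => Q ≤ P ∧ Q ≠ ⊥).filter (fun Q => Q ≤ W), cf Q = 1 := by
  obtain ⟨S, hS⟩ : ∃ S : Finset (Subgroup G),
      S = univ.filter fun Q : Subgroup G => Q ≤ P ∧ Q ≠ ⊥ := ⟨_, rfl⟩
  rw [← hS]
  suffices ∀ n : ℕ, ∃ cf : Subgroup G → ℤ, ∀ W ∈ S, Nat.card W ≤ n →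
      ∑ Q ∈ S.filter (fun Q => Q ≤ W), cf Q = 1 by
    obtain ⟨cf, h⟩ := this (Nat.card G)
    exact ⟨cf, fun W hW hW1 => h W (by rw [hS]; simp [hW, hW1]) (Subgroup.card_le_card_group W)⟩
  intro n
  induction n with
  | zero =>
    exact ⟨0, fun W _ h => absurd h (Nat.not_le.2 Nat.card_pos)⟩
  | succ n ih =>
    obtain ⟨cf, h⟩ := ih
    refine ⟨fun W => if Nat.card W = n + 1 then
      1 - ∑ Q ∈ (S.filter (fun Q => Q ≤ W)).erase W, cf Q else cf W, fun W hW hle => ?_⟩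
    have hlt : ∀ Q ∈ (S.filter (fun Q => Q ≤ W)).erase W, Nat.card Q < Nat.card W := fun Q hQ => by
      obtain ⟨hne, hQ'⟩ := mem_erase.1 hQ
      exact Set.Finite.card_lt_card (Set.toFinite _)
        (SetLike.coe_ssubset_coe.2 (lt_of_le_of_ne (mem_filter.1 hQ').2 hne))
    have hmem : W ∈ S.filter (fun Q => Q ≤ W) := mem_filter.2 ⟨hW, le_rfl⟩
    rw [← Finset.add_sum_erase _ _ hmem,
      Finset.sum_congr rfl (g := cf) fun Q hQ => if_neg fun hc => by
        have := hlt Q hQ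
        omega]
    by_cases hc : Nat.card W = n + 1
    · rw [if_pos hc, sub_add_cancel]
    · rw [if_neg hc, Finset.add_sum_erase _ _ hmem]
      exact h W hW (by omega)

/-- The weights of the subgroups generating a given subgroup with a fixed one. -/
theorem sum_weight_fiber (P : Subgroup G) [Fintype (Subgroup G)] [DecidableRel ((· ≤ ·) : Subgroup G → Subgroup G → Prop)]
    [DecidableEq (Subgroup G)] {cf : Subgroup G → ℤ}
    (hcf : ∀ W : Subgroup G, W ≤ P → W ≠ ⊥ →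
      ∑ Q ∈ (univ.filter fun Q : Subgroup G => Q ≤ P ∧ Q ≠ ⊥).filter (fun Q => Q ≤ W), cf Q = 1)
    {W : Subgroup G} (hW : W ≤ P) (hW1 : W ≠ ⊥) :
    ∀ R : Subgroup G, R ≤ P → W ≤ R →
      ∑ Q ∈ (univ.filter fun Q : Subgroup G => Q ≤ P ∧ Q ≠ ⊥).filter (fun Q => Q ⊔ W = R), cf Q =
        if R = W then 1 else 0 := by
  obtain ⟨S, hS⟩ : ∃ S : Finset (Subgroup G),
      S = univ.filter fun Q : Subgroup G => Q ≤ P ∧ Q ≠ ⊥ := ⟨_, rfl⟩
  rw [← hS] at hcf ⊢
  intro R
  induction hn : Nat.card R using Nat.strong_induction_on generalizing R with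
  | _ n ih =>
    intro hRP hWR
    obtain ⟨T, hT⟩ : ∃ T : Finset (Subgroup G),
        T = univ.filter fun R' : Subgroup G => W ≤ R' ∧ R' ≤ R := ⟨_, rfl⟩
    have hsum : ∑ R' ∈ T, ∑ Q ∈ S.filter (fun Q => Q ⊔ W = R'), cf Q = 1 := by
      rw [← hcf R hRP fun h => hW1 (eq_bot_iff.2 (h ▸ hWR)),
        ← Finset.sum_fiberwise_of_maps_to (g := fun Q => Q ⊔ W) (t := T) (s := S.filter (fun Q => Q ≤ R))
          (fun Q hQ => by
            rw [hT]
            exact mem_filter.2 ⟨mem_univ _, le_sup_right, sup_le (mem_filter.1 hQ).2 hWR⟩)]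
      refine Finset.sum_congr rfl fun R' hR' => ?_
      rw [Finset.filter_filter]
      refine Finset.sum_congr (Finset.filter_congr fun Q _ => ⟨fun h => ⟨?_, h⟩, fun h => h.2⟩)
        fun Q _ => rfl
      rw [hT] at hR'
      exact le_sup_left.trans (h.le.trans (mem_filter.1 hR').2.2)
    have hmem : R ∈ T := hT ▸ mem_filter.2 ⟨mem_univ _, hWR, le_rfl⟩
    rw [← Finset.add_sum_erase _ _ hmem,
      Finset.sum_congr (s₁ := T.erase R) rfl (g := fun R' => if R' = W then (1 : ℤ) else 0) (fun R' hR' => by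
        obtain ⟨hne, hR''⟩ := mem_erase.1 hR'
        rw [hT] at hR''
        obtain ⟨-, h1, h2⟩ := mem_filter.1 hR''
        exact ih _ (hn ▸ Set.Finite.card_lt_card (Set.toFinite _)
          (SetLike.coe_ssubset_coe.2 (lt_of_le_of_ne h2 hne))) R' rfl
          (h2.trans hRP) h1),
      Finset.sum_ite_eq' (T.erase R) W] at hsum
    by_cases hRW : R = W
    · subst hRW
      simp only [Finset.mem_erase, ne_eq, not_true_eq_false, false_and, if_false, add_zero] at hsum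
      rw [if_pos rfl]
      exact hsum
    · rw [if_pos (mem_erase.2 ⟨Ne.symm hRW, hT ▸ mem_filter.2 ⟨mem_univ _, le_rfl, hWR⟩⟩)] at hsum
      rw [if_neg hRW]
      linarith

/-- **The local traces of the source idempotent.** -/
theorem exists_local_traces (hM : IsPModular p M) (hmax : IsMaximalBrauerPair p M B P c)
    (hab : ∀ x ∈ P, ∀ y ∈ P, x * y = y * x)
    (hfree : ∀ g ∈ stabPair ⟨P, c⟩, ∀ x ∈ P, x ≠ 1 → g * x * g⁻¹ = x →
      g ∈ Subgroup.centralizer (P : Set G)) (hP1 : P ≠ ⊥) [Fintype P]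
    [∀ H : Subgroup G, Fintype H] :
    ∃ (m : Subgroup G → ℕ) (K : IrrCharacter G → P → ℂ),
      (∀ Q : Subgroup G, Q ≤ P → Q ≠ ⊥ → ¬ p ∣ m Q ∧ ∃ F : P → ℂ, IsCharacter P F ∧
        ∀ w : P, ∃ ζ : ℂ, (∃ n : ℕ, 0 < n ∧ ζ ^ n = 1) ∧
          F w = ζ * (m (Q ⊔ Subgroup.zpowers (w : G)) : ℂ)) ∧
      (∀ χ, IsCharacter P (K χ)) ∧
      ∀ u : P, u ≠ 1 →
        ∀ b : Set (IrrCharacter (Subgroup.centralizer (Subgroup.zpowers (u : G) : Set G))),
          Relation.ReflTransGen (NormalSubpairRel p M)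
            (⟨Subgroup.zpowers (u : G), b⟩ : BrauerPairIdx G) ⟨P, c⟩ →
          ∀ χ : IrrCharacter G, K χ u =
            secCoef b (u : G) (χ : G → ℂ) * (m (Subgroup.zpowers (u : G)) : ℂ) := by
  classical
  have hp : p.Prime := Fact.out
  have hpM := hM.2.2
  have hP : IsPGroup p P := hmax.1.1.1
  haveI := charP_resField (M := M) hp hpM
  have hUc := isUniformBlock_below hM hmax hab hfree hP1 Relation.ReflTransGen.refl
  obtain ⟨i, hi, hi0, hic, hitr⟩ := exists_source_idem hpM hP hUc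
  have hdata : ∀ Q : Subgroup G, Q ≤ P → Q ≠ ⊥ →
      ∃ f : Set (IrrCharacter (Subgroup.centralizer (Q : Set G))),
        Relation.ReflTransGen (NormalSubpairRel p M) (⟨Q, f⟩ : BrauerPairIdx G) ⟨P, c⟩ ∧
        ∃ hU : IsUniformBlock M p f (Nat.card P),
        ∃ η : IrrCharacter (Subgroup.centralizer (Q : Set G)), η ∈ f ∧
        ∃ d : MonoidAlgebra (loc M) (Subgroup.centralizer (Q : Set G)), d * d = d ∧
          IsFixedBy (P.subgroupOf (Subgroup.centralizer (Q : Set G))) d ∧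
          blockIdem hU.isBlock * redAlg d = redAlg d ∧
          (∀ h : Subgroup.centralizer (Q : Set G), (redAlg d).coeff h = i.coeff (h : G)) ∧
          ∃ n : ℕ, secTrace (η : Subgroup.centralizer (Q : Set G) → ℂ) 1 d = n := by
    intro Q hQP hQ1
    obtain ⟨f, hf⟩ := exists_below (b := ⟨P, c⟩) hpM hmax.1.1 Q hQP
    have hU := isUniformBlock_below hM hmax hab hfree hQ1 hf
    obtain ⟨η, hη⟩ := Blocks.IsPBlock.nonempty hU.isBlock
    obtain ⟨z, hz, hzc⟩ := exists_incl_preimage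
      (cut (Subgroup.centralizer (Q : Set G) : Set G) i)
      (H := Subgroup.centralizer (Q : Set G)) fun g hg => coeff_cut_of_notMem _ hg
    have hzc' : ∀ h : Subgroup.centralizer (Q : Set G), z.coeff h = i.coeff (h : G) := fun h => by
      rw [hzc, coeff_cut_of_mem _ h.2]
    have hzfix : IsFixedBy (P.subgroupOf (Subgroup.centralizer (Q : Set G))) z := fun u hu h => by
      rw [hzc', hzc']
      exact hi.1 (u : G) (Subgroup.mem_subgroupOf.1 hu) (h : G)
    have hzz : z * z = z := incl_injective (M := M) (by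
      rw [map_mul, hz, ← cut_mul p (hP.to_le hQP) (hi.1.mono hQP) (hi.1.mono hQP), hi.2.1])
    obtain ⟨d, hd, hdf, hdz⟩ := exists_idem_lift_red hpM hzfix hzz
    refine ⟨f, hf, hU, η, hη, d, hd, hdf, ?_, fun h => by rw [hdz, hzc'], ?_⟩
    · refine incl_injective (M := M) ?_
      rw [map_mul, hdz, hz, ← pairIdem_eq_incl hU.isBlock]
      exact hi.cut_mul_pairIdem_below hpM hP hi0 hUc.isBlock hic hf hU.isBlock
    · obtain ⟨k, ρ, -, hρ⟩ := η.2
      have hch := isCharacter_secTrace ρ hd hdf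
      rw [hρ] at hch
      obtain ⟨n, ρ', hρ'⟩ := hch
      refine ⟨n, ?_⟩
      have h1 := congrFun hρ' (1 : P.subgroupOf (Subgroup.centralizer (Q : Set G)))
      rw [Representation.char_one, Module.finrank_fin_fun, Subgroup.coe_one] at h1
      exact h1.symm
  choose f hf hU η hη d hd hdf hbd hdc n hn using hdata
  obtain ⟨m, hm⟩ : ∃ m : Subgroup G → ℕ, ∀ Q (h1 : Q ≤ P) (h2 : Q ≠ ⊥), m Q = n Q h1 h2 :=
    ⟨fun Q => if h : Q ≤ P ∧ Q ≠ ⊥ then n Q h.1 h.2 else 0, fun Q h1 h2 => dif_pos ⟨h1, h2⟩⟩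
  have hmn : ∀ Q (h1 : Q ≤ P) (h2 : Q ≠ ⊥), (m Q : ℂ) =
      secTrace (η Q h1 h2 : Subgroup.centralizer (Q : Set G) → ℂ) 1 (d Q h1 h2) :=
    fun Q h1 h2 => by rw [hm Q h1 h2, hn]
  -- the local characters
  have hlocal : ∀ Q (h1 : Q ≤ P) (h2 : Q ≠ ⊥), ∃ F : P → ℂ, IsCharacter P F ∧ F 1 = m Q ∧
      ∀ w : P, ∃ ζ : ℂ, (∃ k : ℕ, 0 < k ∧ ζ ^ k = 1) ∧
        F w = ζ * (m (Q ⊔ Subgroup.zpowers (w : G)) : ℂ) := by
    intro Q h1 h2
    have hPC : P ≤ Subgroup.centralizer (Q : Set G) := le_centralizer_of_abelian h1 hab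
    obtain ⟨F, hF⟩ : ∃ F : P → ℂ, F = fun w : P =>
        secTrace (η Q h1 h2 : Subgroup.centralizer (Q : Set G) → ℂ) ⟨w, hPC w.2⟩ (d Q h1 h2) := ⟨_, rfl⟩
    refine ⟨F, ?_, ?_, fun w => ?_⟩
    · obtain ⟨k, ρ, -, hρ⟩ := (η Q h1 h2).2
      have hch := isCharacter_comp (Subgroup.subgroupOfEquivOfLe hPC).symm.toMonoidHom
        (isCharacter_secTrace ρ (hd Q h1 h2) (hdf Q h1 h2))
      rw [hρ] at hch
      rw [hF]
      exact hch
    · rw [hF, hmn Q h1 h2]
      rfl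
    · set R := Q ⊔ Subgroup.zpowers (w : G) with hR
      have hR1 : R ≤ P := sup_le h1 (Subgroup.zpowers_le.2 w.2)
      have hR2 : R ≠ ⊥ := fun h => h2 (eq_bot_iff.2 (h ▸ (le_sup_left : Q ≤ R)))
      have hQR : Q ≤ R := le_sup_left
      obtain ⟨k, hk, hζ⟩ := exists_pow_blockCoef_eq_one hM hmax hab hfree h2 hQR w.2 hR
        (hf Q h1 h2) (hf R hR1 hR2) (hPC w.2) (hη Q h1 h2)
      refine ⟨_, ⟨k, hk, hζ⟩, ?_⟩
      rw [hF, hmn R hR1 hR2]
      refine secTrace_eq_blockCoef_mul hpM (Subgroup.inclusion (centralizer_antitone hQR))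
        (Subgroup.inclusion_injective _) ?_ (fun a => ?_)
        ⟨isClassFunction_irr _, fun g => irr_mem_loc _ g⟩ (hd Q h1 h2)
        ((hdf Q h1 h2).mono (Subgroup.zpowers_le.2 (show (⟨(w : G), hPC w.2⟩ :
          Subgroup.centralizer (Q : Set G)) ∈ P.subgroupOf _ from Subgroup.mem_subgroupOf.2 w.2)))
        (hd R hR1 hR2) (fun h => by rw [hdc R hR1 hR2 h, hdc Q h1 h2]; rfl)
        (hU R hR1 hR2) (hbd R hR1 hR2) (hη R hR1 hR2)
      · obtain ⟨j, hj⟩ := hP w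
        exact ⟨j, Subtype.ext (by simpa using congrArg Subtype.val hj)⟩
      · rw [show a ∈ (Subgroup.inclusion (centralizer_antitone hQR)).range ↔
            (a : G) ∈ Subgroup.centralizer (R : Set G) from
          ⟨by rintro ⟨h, rfl⟩; exact h.2, fun h => ⟨⟨a, h⟩, rfl⟩⟩]
        constructor
        · intro h
          exact Subtype.ext (Subgroup.mem_centralizer_iff.1 h (w : G)
            ((le_sup_right : Subgroup.zpowers (w : G) ≤ R) (Subgroup.mem_zpowers _))).symm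
        · intro h
          have hle : R ≤ Subgroup.centralizer {(a : G)} := by
            refine sup_le (fun v hv => Subgroup.mem_centralizer_singleton_iff.2 ?_)
              (Subgroup.zpowers_le.2 (Subgroup.mem_centralizer_singleton_iff.2 ?_))
            · exact Subgroup.mem_centralizer_iff.1 a.2 v hv
            · exact (congrArg Subtype.val h).symm
          exact Subgroup.mem_centralizer_iff.2 fun v hv =>
            Subgroup.mem_centralizer_singleton_iff.1 (hle hv)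
  choose F hFchar hF1 hFval using hlocal
  have hunit : ∀ Q (h1 : Q ≤ P) (h2 : Q ≠ ⊥), ¬ p ∣ m Q := by
    intro Q
    induction hn' : Nat.card P - Nat.card Q using Nat.strong_induction_on generalizing Q with
    | _ k ih =>
      intro h1 h2
      rw [← memLocalIdeal_natCast_iff (M := M) hp hpM]
      by_cases hQ : Q = P
      · subst hQ
        rw [hmn Q h1 h2]
        have hfc : f Q h1 h2 = c :=
          below_unique (b := ⟨Q, c⟩) hpM hmax.1.1 (hf Q h1 h2) Relation.ReflTransGen.refl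
        refine hitr _ (hd Q h1 h2) (hdc Q h1 h2) _ ?_
        have := hη Q h1 h2
        rwa [hfc] at this
      obtain ⟨w, hwP, hwQ⟩ := SetLike.exists_of_lt (lt_of_le_of_ne h1 hQ)
      have hlt : Q < Q ⊔ Subgroup.zpowers w := lt_of_le_of_ne le_sup_left fun h =>
        hwQ (h ▸ (le_sup_right : Subgroup.zpowers w ≤ Q ⊔ _) (Subgroup.mem_zpowers w))
      have hR1 : Q ⊔ Subgroup.zpowers w ≤ P := sup_le h1 (Subgroup.zpowers_le.2 hwP)
      have hcard1 : Nat.card Q < Nat.card (Q ⊔ Subgroup.zpowers w : Subgroup G) :=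
        Set.Finite.card_lt_card (Set.toFinite _) hlt
      have hcard2 := Subgroup.card_le_of_le hR1
      have hR := ih _ (by omega) (Q ⊔ Subgroup.zpowers w) rfl hR1
        fun h => h2 (eq_bot_iff.2 (h ▸ le_sup_left))
      obtain ⟨ζ, hζ, hFw⟩ := hFval Q h1 h2 ⟨w, hwP⟩
      intro hmem
      have h := gen_congr_one hpM hP (isGen_of_char (hFchar Q h1 h2)) ⟨w, hwP⟩
      rw [hFw, hF1] at h
      have h' := MemLocalIdeal.add' h hmem
      rw [sub_add_cancel] at h'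
      rcases MemLocalIdeal.mem_or_mem (isIntegral_mem_loc (root_isIntegral hζ))
        (natCast_mem_loc _) h' with h'' | h''
      · exact not_mem_of_norm_one (root_isIntegral hζ) (root_mul_conj hζ) h''
      · exact hR ((memLocalIdeal_natCast_iff hp hpM _).1 h'')
  -- the lift in the whole group
  obtain ⟨e, he, hef, hei⟩ := exists_idem_lift_red hpM hi.1 hi.2.1
  refine ⟨m, fun χ u => secTrace (χ : G → ℂ) (u : G) e, fun Q h1 h2 =>
    ⟨hunit Q h1 h2, F Q h1 h2, hFchar Q h1 h2, hFval Q h1 h2⟩, fun χ => ?_, fun u hu b hb χ => ?_⟩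
  · obtain ⟨k, ρ, -, hρ⟩ := χ.2
    show IsCharacter P fun u : P => secTrace (χ : G → ℂ) (u : G) e
    rw [← hρ]
    exact isCharacter_secTrace ρ he hef
  · have h1 : Subgroup.zpowers (u : G) ≤ P := Subgroup.zpowers_le.2 u.2
    have h2 : Subgroup.zpowers (u : G) ≠ ⊥ :=
      fun h => hu (Subtype.ext (Subgroup.zpowers_eq_bot.1 h))
    obtain rfl : b = f _ h1 h2 :=
      below_unique (b := ⟨P, c⟩) hpM hmax.1.1 hb (hf _ h1 h2)
    show secTrace (χ : G → ℂ) (u : G) e = _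
    rw [hmn _ h1 h2, secCoef]
    refine secTrace_eq_blockCoef_mul hpM (Subgroup.centralizer (Subgroup.zpowers (u : G) : Set G)).subtype
      (Subgroup.subtype_injective _) ((hP u).imp fun j hj => by simpa using congrArg Subtype.val hj)
      (fun a => ?_)
      ⟨isClassFunction_irr _, fun g => irr_mem_loc _ g⟩ he (hef.mono h1)
      (hd _ h1 h2) (fun h => by rw [hdc _ h1 h2 h, hei]; rfl) (hU _ h1 h2) (hbd _ h1 h2) (hη _ h1 h2)
    rw [Subgroup.range_subtype]
    exact mem_centralizer_zpowers_iff _ a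

/-- **The twist**: roots of unity turning the section coefficients into generalized characters. -/
theorem exists_unit_twist (hM : IsPModular p M) (hmax : IsMaximalBrauerPair p M B P c)
    (hab : ∀ x ∈ P, ∀ y ∈ P, x * y = y * x)
    (hfree : ∀ g ∈ stabPair ⟨P, c⟩, ∀ x ∈ P, x ≠ 1 → g * x * g⁻¹ = x →
      g ∈ Subgroup.centralizer (P : Set G)) (hP1 : P ≠ ⊥) [Fintype P]
    [∀ H : Subgroup G, Fintype H]
    (b : ∀ u : P, Set (IrrCharacter (Subgroup.centralizer (Subgroup.zpowers (u : G) : Set G))))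
    (hb : ∀ u : P, Relation.ReflTransGen (NormalSubpairRel p M)
      (⟨Subgroup.zpowers (u : G), b u⟩ : BrauerPairIdx G) ⟨P, c⟩) :
    ∃ s : P → ℂ, (∀ u, ∃ n : ℕ, 0 < n ∧ s u ^ n = 1) ∧
      ∀ χ : IrrCharacter G, ∃ g : P → ℂ, IsGeneralizedCharacter P g ∧
        ∀ u, u ≠ 1 → g u = secCoef (b u) (u : G) (χ : G → ℂ) * s u := by
  classical
  have hpM := hM.2.2
  have hP : IsPGroup p P := hmax.1.1.1
  have hA : ∀ a a' : P, a * a' = a' * a := fun a a' => Subtype.ext (hab a a.2 a' a'.2)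
  obtain ⟨m, K, hloc, hKchar, hKval⟩ := exists_local_traces hM hmax hab hfree hP1
  haveI : Fintype (Subgroup G) := Fintype.ofFinite _
  obtain ⟨cf, hcf⟩ := exists_weight P
  obtain ⟨S, hS⟩ : ∃ S : Finset (Subgroup G),
      S = univ.filter fun Q : Subgroup G => Q ≤ P ∧ Q ≠ ⊥ := ⟨_, rfl⟩
  have hmemS : ∀ {Q}, Q ∈ S → Q ≤ P ∧ Q ≠ ⊥ := fun {Q} h => by
    rw [hS] at h; exact (mem_filter.1 h).2
  have hmS : ∀ Q : S, ¬ p ∣ m Q.1 := fun Q => (hloc Q.1 (hmemS Q.2).1 (hmemS Q.2).2).1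
  choose F hFchar ζ hζ hFval using fun Q : S => (hloc Q.1 (hmemS Q.2).1 (hmemS Q.2).2).2
  have hm0 : ∀ R, R ≤ P → R ≠ ⊥ → (m R : ℂ) ≠ 0 := fun R h1 h2 => Nat.cast_ne_zero.2 fun h =>
    (hloc R h1 h2).1 (h ▸ dvd_zero p)
  have hsup : ∀ (Q : S) (w : P), Q.1 ⊔ Subgroup.zpowers (w : G) ≤ P ∧
      Q.1 ⊔ Subgroup.zpowers (w : G) ≠ ⊥ := fun Q w =>
    ⟨sup_le (hmemS Q.2).1 (Subgroup.zpowers_le.2 w.2),
      fun h => (hmemS Q.2).2 (eq_bot_iff.2 (h ▸ le_sup_left))⟩
  have hFunit : ∀ (Q : S) (w : P), ¬ MemLocalIdeal M (F Q w) := fun Q w => by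
    rw [hFval Q w]
    refine not_mem_mul (isIntegral_mem_loc (root_isIntegral (hζ Q w))) (natCast_mem_loc _)
      (not_mem_of_norm_one (root_isIntegral (hζ Q w)) (root_mul_conj (hζ Q w))) ?_
    rw [memLocalIdeal_natCast_iff Fact.out hpM]
    exact (hloc _ (hsup Q w).1 (hsup Q w).2).1
  obtain ⟨s, hs⟩ : ∃ s : P → ℂ, s = fun w => ∏ Q : S, ζ Q w ^ (-cf Q.1) := ⟨_, rfl⟩
  refine ⟨s, fun u => by rw [hs]; exact root_prod _ fun Q _ => root_zpow (hζ Q u) _, fun χ => ?_⟩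
  have hgenh : IsLocGen p fun w : P => K χ w * ∏ Q : S, F Q w ^ (-cf Q.1) :=
    (IsLocGen.of_gen (isGen_of_char (hKchar χ))).mul
      (IsLocGen.prod _ fun Q _ => IsLocGen.zpow hpM hA (isGen_of_char (hFchar Q)) (hFunit Q) _)
  have hval : ∀ u : P, u ≠ 1 →
      K χ u * ∏ Q : S, F Q u ^ (-cf Q.1) = secCoef (b u) (u : G) (χ : G → ℂ) * s u := by
    intro u hu
    have hW : Subgroup.zpowers (u : G) ≤ P := Subgroup.zpowers_le.2 u.2
    have hW1 : Subgroup.zpowers (u : G) ≠ ⊥ :=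
      fun h => hu (Subtype.ext (Subgroup.zpowers_eq_bot.1 h))
    have hprod : ∏ Q : S, (m (Q.1 ⊔ Subgroup.zpowers (u : G)) : ℂ) ^ (-cf Q.1) =
        ((m (Subgroup.zpowers (u : G)) : ℂ))⁻¹ := by
      rw [Finset.prod_coe_sort S fun Q => (m (Q ⊔ Subgroup.zpowers (u : G)) : ℂ) ^ (-cf Q),
        ← Finset.prod_fiberwise_of_maps_to (g := fun Q => Q ⊔ Subgroup.zpowers (u : G)) (t := S)
          (fun Q hQ => by
            rw [hS]
            exact mem_filter.2 ⟨mem_univ _, sup_le (hmemS hQ).1 hW,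
              fun h => (hmemS hQ).2 (eq_bot_iff.2 (h ▸ le_sup_left))⟩)]
      rw [Finset.prod_congr rfl (g := fun R => (m R : ℂ) ^
        (-if R = Subgroup.zpowers (u : G) then (1 : ℤ) else 0)) fun R hR => ?_]
      · rw [Finset.prod_eq_single (Subgroup.zpowers (u : G)) (fun R _ hne => by simp [hne])
          (fun h => absurd (hS ▸ mem_filter.2 ⟨mem_univ _, hW, hW1⟩) h), if_pos rfl, zpow_neg_one]
      · rw [Finset.prod_congr rfl (g := fun Q => (m R : ℂ) ^ (-cf Q))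
          fun Q hQ => by rw [(mem_filter.1 hQ).2]]
        have hzsum : ∀ T : Finset (Subgroup G),
            ∏ Q ∈ T, (m R : ℂ) ^ (-cf Q) = (m R : ℂ) ^ (∑ Q ∈ T, -cf Q) := by
          intro T
          induction T using Finset.induction with
          | empty => simp
          | insert a T ha ih =>
            rw [Finset.prod_insert ha, Finset.sum_insert ha, ih,
              zpow_add₀ (hm0 R (hmemS hR).1 (hmemS hR).2)]
        rw [hzsum, Finset.sum_neg_distrib]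
        by_cases hle : Subgroup.zpowers (u : G) ≤ R
        · rw [hS, sum_weight_fiber P hcf hW hW1 R (hmemS hR).1 hle]
        · rw [if_neg fun h => hle h.ge, Finset.filter_false_of_mem
            (p := fun Q => Q ⊔ Subgroup.zpowers (u : G) = R) fun Q _ hQ => hle (hQ ▸ le_sup_right),
            Finset.sum_empty]
    rw [hKval u hu (b u) (hb u) χ, hs,
      Finset.prod_congr rfl fun Q _ => show F Q u ^ (-cf Q.1) =
        ζ Q u ^ (-cf Q.1) * (m (Q.1 ⊔ Subgroup.zpowers (u : G)) : ℂ) ^ (-cf Q.1) by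
          rw [hFval Q u, mul_zpow],
      Finset.prod_mul_distrib, hprod]
    have := hm0 _ hW hW1
    field_simp
  obtain ⟨g, hg, hgv⟩ := hgenh.exists_gen hP hA fun u hu => by
    rw [hval u hu]
    refine (secCoef_isIntegral (fun a => mem_centralizer_zpowers_iff _ a) χ).mul (root_isIntegral ?_)
    rw [hs]
    exact root_prod _ fun Q _ => root_zpow (hζ Q u) _
  exact ⟨g, hg, fun u hu => (hgv u hu).trans (hval u hu)⟩

end CfsgLib.FreeColumns
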