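import Cfsg.Agent.Lib.Blocks.FreeColumns.Local

/-!
# A primitive idempotent whose trace in the block at the defect group is prime to `p`
-/

set_option autoImplicit false
set_option linter.style.haveILetI false
set_option linter.unusedSectionVars false

namespace CfsgLib.FreeColumns

open Cfsg CfsgLib.Chars CfsgLib.Blocks CfsgLib.BlockOrth Finset
open scoped ComplexConjugate

universe u

variable {M : Ideal AlgInt} [M.IsPrime] {p : ℕ} [Fact p.Prime]

section Block

variable {L : Type u} [Group L] [Fintype L] {b : Set (IrrCharacter L)} {q : ℕ}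

/-- Some value of a uniform block on a regular element is a unit. -/
theorem exists_regular_not_mem (hpM : (p : AlgInt) ∈ M) (hU : IsUniformBlock M p b q)
    {η : IrrCharacter L} (hη : η ∈ b) :
    ∃ y : L, ¬ p ∣ orderOf y ∧ ¬ MemLocalIdeal M ((η : L → ℂ) y) := by
  classical
  haveI := irrFintype L
  have hp : p.Prime := Fact.out
  by_contra hno
  push Not at hno
  refine blockIdem_ne_zero hU.isBlock ?_
  apply MonoidAlgebra.ext
  ext g
  simp only [MonoidAlgebra.coeff_zero, Finsupp.coe_zero, Pi.zero_apply]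
  rw [blockIdem, coeff_redFun, red_eq_zero_iff]
  show MemLocalIdeal M (blockCoeff b g)
  by_cases hg : p ∣ orderOf g
  · rw [blockCoeff_eq_zero_of_dvd hp hpM hU.isBlock hg]
    exact MemLocalIdeal.zero'
  have hval : blockCoeff b g =
      ((q : ℂ) * (η : L → ℂ) 1 * (Nat.card L : ℂ)⁻¹) * conj ((η : L → ℂ) g) := by
    rw [blockCoeff, finsum_mem_eq_sum_of_inter_support_eq (t := univ.filter (· ∈ b)) _ (by ext; simp),
      Finset.sum_congr rfl (g := fun _ => (η : L → ℂ) 1 * conj ((η : L → ℂ) g)) (fun χ hχ => by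
        rw [hU.degree_eq (mem_filter.1 hχ).2 hη, hU.reg χ (mem_filter.1 hχ).2 η hη g hg]),
      Finset.sum_const, hU.card_filter, nsmul_eq_mul]
    ring
  have hcoef : (q : ℂ) * (η : L → ℂ) 1 * (Nat.card L : ℂ)⁻¹ =
      ((charDegree (η : L → ℂ) / p ^ blockMin p b : ℕ) : ℂ) * invCompl L p := by
    rw [← pow_mul_inv_card (G := L) (p := p), ← blockMin_add_blockDefect (B := b) ⟨η, hη⟩,
      irr_apply_one]
    conv_lhs => rw [← hU.pow,
      ← Nat.ordProj_mul_ordCompl_eq_self (charDegree (η : L → ℂ)) p]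
    rw [show (charDegree (η : L → ℂ)).factorization p = blockMin p b from hU.degVal_eq hη]
    push_cast
    rw [pow_add]
    ring
  rw [hval, hcoef, ← char_inv (isCharacter_of_irr η.2)]
  exact MemLocalIdeal.mul_left' (mul_mem (natCast_mem_loc _) (invCompl_mem_loc hpM))
    (hno g⁻¹ (by rwa [orderOf_inv]))

theorem secTrace_eq_of_block (hpM : (p : AlgInt) ∈ M) (hU : IsUniformBlock M p b q)
    {η η' : IrrCharacter L} (hη : η ∈ b) (hη' : η' ∈ b) {d : MonoidAlgebra (loc M) L}
    (hd : d * d = d) : secTrace (η : L → ℂ) 1 d = secTrace (η' : L → ℂ) 1 d := by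
  have hp : p.Prime := Fact.out
  rw [← sub_eq_zero, secTrace, secTrace, ← Finset.sum_sub_distrib]
  refine Eq.trans (Finset.sum_congr rfl fun y _ => ?_) (sum_idem_mul_regular_eq_zero hp hpM
    (a := fun g => (d.coeff g : ℂ)) (fun g => (d.coeff g).2)
    (funext fun g => by rw [← coeff_mul_eq_conv, hd])
    (θ := (η : L → ℂ) - (η' : L → ℂ))
    (isClassFunction_sub (isClassFunction_irr η) (isClassFunction_irr η'))
    (fun g hg => by rw [Pi.sub_apply, hU.reg η hη η' hη' g hg, sub_self])
    (s := 1) (by simp [hp.ne_one]) fun g => by rw [one_mul, inv_one, mul_one])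
  rw [mul_one, Pi.sub_apply, mul_sub]

/-- An idempotent of the block whose trace is prime to `p`. -/
theorem exists_idem_trace (hpM : (p : AlgInt) ∈ M) (hU : IsUniformBlock M p b q)
    {η : IrrCharacter L} (hη : η ∈ b) :
    ∃ d : MonoidAlgebra (loc M) L, d * d = d ∧ blockIdem hU.isBlock * redAlg d = redAlg d ∧
      ¬ MemLocalIdeal M (secTrace (η : L → ℂ) 1 d) := by
  classical
  have hp : p.Prime := Fact.out
  obtain ⟨y, hy, hηy⟩ := exists_regular_not_mem hpM hU hη
  obtain ⟨Y, hY⟩ : ∃ Y : Subgroup L, Y = Subgroup.zpowers y := ⟨_, rfl⟩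
  haveI := Fintype.ofFinite Y
  haveI := irrFintype Y
  have hYc : ¬ p ∣ Nat.card Y := by rw [hY, Nat.card_zpowers]; exact hy
  have hYab : ∀ a c : Y, a * c = c * a := by
    rintro ⟨a, ha⟩ ⟨c, hc⟩
    rw [hY] at ha hc
    obtain ⟨i, rfl⟩ := Subgroup.mem_zpowers_iff.1 ha
    obtain ⟨j, rfl⟩ := Subgroup.mem_zpowers_iff.1 hc
    exact Subtype.ext ((Commute.refl y).zpow_zpow i j).eq
  have hres : IsCharacter Y (fun v : Y => (η : L → ℂ) v) :=
    isCharacter_restrict Y (isCharacter_of_irr η.2)
  choose n hn using inner_irr_right_nat hres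
  obtain ⟨l, hl⟩ : ∃ l : IrrCharacter Y, ¬ p ∣ n l := by
    by_contra hall
    push Not at hall
    refine hηy ?_
    have h := congrFun (classFun_eq_sum (isClassFunction_of_isCharacter hres))
      (⟨y, hY ▸ Subgroup.mem_zpowers y⟩ : Y)
    change (η : L → ℂ) y = _ at h
    rw [h, Finset.sum_apply]
    refine MemLocalIdeal.sum' fun l _ => ?_
    obtain ⟨j, hj⟩ := hall l
    rw [Pi.smul_apply, smul_eq_mul, hn l, hj, Nat.cast_mul]
    exact MemLocalIdeal.mul_right' (MemLocalIdeal.mul_right' (memLocalIdeal_prime hpM)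
      (natCast_mem_loc j)) (irr_mem_loc l _)
  obtain ⟨lam, hlam⟩ := exists_hom_of_degree_one (isCharacter_of_irr l.2)
    (irr_abelian_degree hYab l.2)
  have hlin : ∀ g, linCoeff Y lam g ∈ loc M := linCoeff_mem_loc hpM hYc lam
  set ε := toAlg (blockCoeff b) (blockCoeff_mem_loc hU.isBlock) with hε
  set ℓ := toAlg (linCoeff Y lam) hlin with hℓ
  have hεε : ε * ε = ε := toAlg_mul_self _ (conv_blockCoeff_self b)
  have hℓℓ : ℓ * ℓ = ℓ := toAlg_mul_self _ (conv_linCoeff_self Y lam)
  have hcomm : ε * ℓ = ℓ * ε := by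
    apply MonoidAlgebra.ext
    ext g
    rw [coeff_mul_eq_conv, coeff_mul_eq_conv]
    simp only [hε, hℓ, coeff_toAlg]
    exact congrFun (conv_comm_of_invariant fun w _ g => isClassFunction_blockCoeff b g w) g
  refine ⟨ε * ℓ, ?_, ?_, ?_⟩
  · rw [mul_assoc, ← mul_assoc ℓ, ← hcomm, mul_assoc ε ℓ, hℓℓ, ← mul_assoc, hεε]
  · rw [map_mul, redAlg_toAlg_blockCoeff hU.isBlock, ← mul_assoc, blockIdem_mul_self]
  have htr : secTrace (η : L → ℂ) 1 (ε * ℓ) = (n l : ℂ) := by
    rw [← hn l, inner_def, secTrace]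
    simp only [coeff_mul_eq_conv, hε, hℓ, coeff_toAlg, Blocks.conv, Finset.sum_mul, mul_one]
    rw [Finset.sum_comm]
    calc ∑ x, ∑ g, blockCoeff b x * linCoeff Y lam (x⁻¹ * g) * (η : L → ℂ) g
        = ∑ v, linCoeff Y lam v * ∑ x, blockCoeff b x * (η : L → ℂ) (x * v) := by
          simp only [Finset.mul_sum]
          rw [Finset.sum_comm (γ := L) (f := fun v x => linCoeff Y lam v *
            (blockCoeff b x * (η : L → ℂ) (x * v)))]
          refine Finset.sum_congr rfl fun x _ => ?_
          rw [← Equiv.sum_comp (Equiv.mulLeft x)]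
          refine Finset.sum_congr rfl fun v _ => ?_
          simp only [Equiv.coe_mulLeft, inv_mul_cancel_left]
          ring
      _ = ∑ v, linCoeff Y lam v * (η : L → ℂ) v := by
          refine Finset.sum_congr rfl fun v _ => ?_
          rw [sum_mul_blockCoeff b η v, if_pos hη]
      _ = _ := by
          rw [← Finset.sum_subset (subset_univ (univ.image (Subtype.val : Y → L)))
            (fun v _ hv => by
              rw [linCoeff, extFun_of_notMem _ fun h => hv (mem_image.2 ⟨⟨v, h⟩, mem_univ _, rfl⟩),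
                zero_mul]),
            Finset.sum_image fun a _ c _ h => Subtype.ext h, Finset.mul_sum]
          refine Finset.sum_congr rfl fun v _ => ?_
          rw [linCoeff, extFun_coe, hlam]
          ring
  rw [htr, memLocalIdeal_natCast_iff hp hpM]
  exact hl

end Block

variable {G : Type u} [Group G] [Fintype G] {P : Subgroup G}
  {c : Set (IrrCharacter (Subgroup.centralizer (P : Set G)))}

theorem cut_zpowers_one {L : Type u} [Group L] [Fintype L] (w : MonoidAlgebra (ResField M) L) :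
    cut (Subgroup.centralizer (Subgroup.zpowers (1 : L) : Set L) : Set L) w = w :=
  cut_eq_self_iff.2 fun g hg => absurd ((mem_centralizer_zpowers_iff (1 : L) g).2 (by simp)) hg

theorem secTau_finset_sum {L : Type u} [Group L] [Fintype L] (hpM : (p : AlgInt) ∈ M)
    {θ : L → ℂ} (hθ : IsLocClassFun M θ) {ι : Type*} (s : Finset ι)
    {z : ι → MonoidAlgebra (ResField M) L} (hz : ∀ k, z k * z k = z k)
    (horth : ∀ j k, j ≠ k → z j * z k = 0) :
    secTau θ 1 (∑ k ∈ s, z k) = ∑ k ∈ s, secTau θ 1 (z k) := by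
  classical
  have hs : ∃ k : ℕ, (1 : L) ^ p ^ k = 1 := ⟨0, one_pow _⟩
  have hfix : ∀ w : MonoidAlgebra (ResField M) L, IsFixedBy (Subgroup.zpowers (1 : L)) w := by
    intro w v hv g
    obtain ⟨j, rfl⟩ := Subgroup.mem_zpowers_iff.1 hv
    simp
  induction s using Finset.induction with
  | empty => rw [Finset.sum_empty, Finset.sum_empty, secTau_zero hpM hθ hs (cut_zero _)]
  | insert a s ha ih =>
    rw [Finset.sum_insert ha, Finset.sum_insert ha, ← ih]
    have h12 : z a * ∑ k ∈ s, z k = 0 := by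
      rw [Finset.mul_sum]
      exact Finset.sum_eq_zero fun k hk => horth a k fun h => ha (h ▸ hk)
    have h21 : (∑ k ∈ s, z k) * z a = 0 := by
      rw [Finset.sum_mul]
      exact Finset.sum_eq_zero fun k hk => horth k a fun h => ha (h ▸ hk)
    have h22 : (∑ k ∈ s, z k) * (∑ k ∈ s, z k) = ∑ k ∈ s, z k := by
      rw [Finset.sum_mul]
      refine Finset.sum_congr rfl fun k hk => ?_
      rw [Finset.mul_sum, Finset.sum_eq_single k (fun j _ hj => horth k j hj.symm)
        (fun h => absurd hk h), hz]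
    refine secTau_add hpM hθ hs (hfix _) (hfix _) ?_ ?_ ?_ ?_ <;> simp only [cut_zpowers_one]
    · exact hz a
    · exact h22
    · exact h12
    · exact h21

/-- Restriction to a subgroup of an element of the group ring supported there. -/
theorem exists_incl_preimage {H : Subgroup G} (z : MonoidAlgebra (ResField M) G)
    (hz : ∀ g, g ∉ H → z.coeff g = 0) :
    ∃ w : MonoidAlgebra (ResField M) H, incl M H w = z ∧ ∀ h : H, w.coeff h = z.coeff h := by
  refine ⟨MonoidAlgebra.ofCoeff (Finsupp.equivFunOnFinite.symm fun h : H => z.coeff (h : G)), ?_,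
    fun h => by simp⟩
  apply MonoidAlgebra.ext
  ext g
  by_cases hg : g ∈ H
  · rw [show g = ((⟨g, hg⟩ : H) : G) from rfl, coeff_incl]
    simp
  · rw [coeff_incl_of_notMem _ hg, hz g hg]

/-- **The source idempotent.** -/
theorem exists_source_idem [Fintype (Subgroup.centralizer (P : Set G))] (hpM : (p : AlgInt) ∈ M)
    (hP : IsPGroup p P) {q : ℕ} (hU : IsUniformBlock M p c q) :
    ∃ i : MonoidAlgebra (ResField M) G, IsPrimIn P i ∧
      cut (Subgroup.centralizer (P : Set G) : Set G) i ≠ 0 ∧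
      pairIdem hU.isBlock * cut (Subgroup.centralizer (P : Set G) : Set G) i =
        cut (Subgroup.centralizer (P : Set G) : Set G) i ∧
      ∀ (d : MonoidAlgebra (loc M) (Subgroup.centralizer (P : Set G))), d * d = d →
        (∀ h : Subgroup.centralizer (P : Set G), (redAlg d).coeff h = i.coeff (h : G)) →
        ∀ η ∈ c, ¬ MemLocalIdeal M
          (secTrace ((η : IrrCharacter (Subgroup.centralizer (P : Set G))) :
            Subgroup.centralizer (P : Set G) → ℂ) 1 d) := by
  classical
  haveI := charP_resField (M := M) (Fact.out (p := p.Prime)) hpM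
  obtain ⟨η, hη⟩ := Blocks.IsPBlock.nonempty hU.isBlock
  obtain ⟨d₀, hd₀, hbd₀, htr⟩ := exists_idem_trace hpM hU hη
  set a := incl M (Subgroup.centralizer (P : Set G)) (redAlg d₀) with ha
  have haa : a * a = a := by rw [ha, ← map_mul, ← map_mul, hd₀]
  have hcuta : cut (Subgroup.centralizer (P : Set G) : Set G) a = a :=
    cut_eq_self_iff.2 fun g hg => coeff_incl_of_notMem _ hg
  have haP : IsFixedBy P a := by
    intro u hu g
    by_cases hg : g ∈ Subgroup.centralizer (P : Set G)
    · rw [Subgroup.mem_centralizer_iff.1 hg u hu, mul_inv_cancel_right]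
    · rw [ha, coeff_incl_of_notMem _ hg, coeff_incl_of_notMem _
        (mt (conj_mem_centralizer_iff (Subgroup.le_normalizer hu) g).1 hg)]
  obtain ⟨N, f, hf, horth, hsum⟩ := exists_decomp haP haa
  have hsupp : ∀ k g, g ∉ Subgroup.centralizer (P : Set G) →
      (cut (Subgroup.centralizer (P : Set G) : Set G) (f k)).coeff g = 0 :=
    fun k g hg => coeff_cut_of_notMem _ hg
  choose z hz hzc using fun k => exists_incl_preimage _ (hsupp k)
  have hzz : ∀ k, z k * z k = z k := fun k => incl_injective (M := M) (by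
    rw [map_mul, hz, ← cut_mul p hP (hf k).1 (hf k).1, (hf k).2.1])
  have hzo : ∀ j k, j ≠ k → z j * z k = 0 := fun j k hjk => incl_injective (M := M) (by
    rw [map_mul, map_zero, hz, hz, ← cut_mul p hP (hf j).1 (hf k).1, horth j k hjk, cut_zero])
  have hzsum : ∑ k, z k = redAlg d₀ := incl_injective (M := M) (by
    rw [map_sum, ← ha, ← hcuta, ← hsum, Finset.sum_congr rfl fun k _ => hz k]
    exact (map_sum (AddMonoidHom.mk' (cut (Subgroup.centralizer (P : Set G) : Set G))
      (cut_add _)) f univ).symm)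
  have hθ : IsLocClassFun M ((η : IrrCharacter (Subgroup.centralizer (P : Set G))) :
      Subgroup.centralizer (P : Set G) → ℂ) := ⟨isClassFunction_irr η, fun g => irr_mem_loc η g⟩
  have hs : ∃ k : ℕ, (1 : Subgroup.centralizer (P : Set G)) ^ p ^ k = 1 := ⟨0, one_pow _⟩
  have hfix1 : ∀ w : MonoidAlgebra (loc M) (Subgroup.centralizer (P : Set G)),
      IsFixedBy (Subgroup.zpowers (1 : Subgroup.centralizer (P : Set G))) w := by
    intro w v hv g
    obtain ⟨j, rfl⟩ := Subgroup.mem_zpowers_iff.1 hv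
    simp
  obtain ⟨k, hk⟩ : ∃ k, ¬ MemLocalIdeal M
      (secTau ((η : IrrCharacter (Subgroup.centralizer (P : Set G))) :
        Subgroup.centralizer (P : Set G) → ℂ) 1 (z k)) := by
    by_contra hall
    push Not at hall
    refine htr ?_
    rw [← secTau_eq hpM hθ hs hd₀ (hfix1 d₀) (z := redAlg d₀) rfl, ← hzsum,
      secTau_finset_sum hpM hθ univ hzz hzo]
    exact MemLocalIdeal.sum' fun k _ => hall k
  refine ⟨f k, hf k, fun h0 => hk ?_, ?_, fun d hd hdc η' hη' => ?_⟩
  · have hz0 : z k = 0 := incl_injective (M := M) (by rw [hz, h0, map_zero])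
    rw [hz0, secTau_zero hpM hθ hs (cut_zero _)]
    exact MemLocalIdeal.zero'
  · rw [← hz k, pairIdem_eq_incl, ← map_mul]
    congr 1
    have h1 : redAlg d₀ * z k = z k := by
      rw [← hzsum, Finset.sum_mul, Finset.sum_eq_single k (fun j _ hj => hzo j k hj) (by simp), hzz]
    conv_lhs => rw [← h1, ← mul_assoc, hbd₀, h1]
  · have hred : redAlg d = z k := by
      apply MonoidAlgebra.ext
      ext h
      rw [hdc, hzc, coeff_cut_of_mem _ h.2]
    rw [secTrace_eq_of_block hpM hU hη' hη hd, ← secTau_eq hpM hθ hs hd (hfix1 d) (z := z k) (by rw [hred])]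
    exact hk

end CfsgLib.FreeColumns
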