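import Cfsg.Agent.Lib.BlockOrth.CycloTwo
import Cfsg.Agent.Lib.Blocks.PrincipalExtension
import Mathlib.NumberTheory.NumberField.InfinitePlace.Embeddings

/-!
# Generalized characters of an abelian group up to a denominator prime to `p`

A generalized character all of whose values are units at `M` is invertible up to an integer
prime to `p`; a function with integral values which is a generalized character up to such an
integer agrees away from the identity with a generalized character.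
-/

set_option autoImplicit false
set_option linter.style.haveILetI false
set_option linter.unusedSectionVars false

namespace CfsgLib.FreeColumns

open Cfsg CfsgLib.Chars CfsgLib.Blocks CfsgLib.BlockOrth CfsgLib.CharApps Finset
open scoped ComplexConjugate IntermediateField

universe u

section Basic

variable {A : Type u} [Group A] [Fintype A]

theorem isGen_of_char {χ : A → ℂ} (h : IsCharacter A χ) : IsGeneralizedCharacter A χ :=
  ⟨χ, 0, h, isCharacter_zero, (sub_zero _).symm⟩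

theorem isGen_add {f g : A → ℂ} (hf : IsGeneralizedCharacter A f)
    (hg : IsGeneralizedCharacter A g) : IsGeneralizedCharacter A (f + g) := by
  obtain ⟨a, b, ha, hb, rfl⟩ := hf
  obtain ⟨c, d, hc, hd, rfl⟩ := hg
  exact ⟨a + c, b + d, isCharacter_add ha hc, isCharacter_add hb hd, by abel⟩

theorem isGen_neg {f : A → ℂ} (hf : IsGeneralizedCharacter A f) :
    IsGeneralizedCharacter A (-f) := by
  obtain ⟨a, b, ha, hb, rfl⟩ := hf
  exact ⟨b, a, hb, ha, by abel⟩

theorem isGen_mul {f g : A → ℂ} (hf : IsGeneralizedCharacter A f)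
    (hg : IsGeneralizedCharacter A g) : IsGeneralizedCharacter A (f * g) := by
  obtain ⟨a, b, ha, hb, rfl⟩ := hf
  obtain ⟨c, d, hc, hd, rfl⟩ := hg
  exact ⟨a * c + b * d, a * d + b * c, isCharacter_add (isCharacter_mul ha hc) (isCharacter_mul hb hd),
    isCharacter_add (isCharacter_mul ha hd) (isCharacter_mul hb hc), by ring⟩

theorem isGen_intConst (n : ℤ) : IsGeneralizedCharacter A fun _ => (n : ℂ) := by
  have h : ∀ m : ℕ, IsCharacter A fun _ => (m : ℂ) := fun m => by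
    have := isCharacter_nsmul m (isCharacter_one (G := A))
    convert this using 1
    funext x
    simp
  refine ⟨_, _, h n.toNat, h (-n).toNat, funext fun x => ?_⟩
  have h1 : ((n.toNat : ℕ) : ℤ) - ((-n).toNat : ℕ) = n := Int.toNat_sub_toNat_neg n
  show (n : ℂ) = (n.toNat : ℂ) - ((-n).toNat : ℂ)
  exact_mod_cast h1.symm

theorem isGen_one : IsGeneralizedCharacter A (1 : A → ℂ) := isGen_of_char isCharacter_one

theorem isGen_prod {ι : Type*} (s : Finset ι) {f : ι → A → ℂ}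
    (h : ∀ i ∈ s, IsGeneralizedCharacter A (f i)) : IsGeneralizedCharacter A (∏ i ∈ s, f i) :=
  Finset.prod_induction _ (IsGeneralizedCharacter A) (fun _ _ => isGen_mul) isGen_one h

theorem isGen_comp {B : Type u} [Group B] [Fintype B] (φ : B →* A) {f : A → ℂ}
    (hf : IsGeneralizedCharacter A f) : IsGeneralizedCharacter B fun b => f (φ b) := by
  obtain ⟨a, b, ha, hb, rfl⟩ := hf
  exact ⟨_, _, isCharacter_comp φ ha, isCharacter_comp φ hb, rfl⟩

theorem gen_isIntegral {f : A → ℂ} (hf : IsGeneralizedCharacter A f) (x : A) :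
    IsIntegral ℤ (f x) := by
  obtain ⟨a, b, ha, hb, rfl⟩ := hf
  exact (char_isIntegral ha x).sub (char_isIntegral hb x)

theorem gen_galois {f : A → ℂ} (hf : IsGeneralizedCharacter A f) {N k : ℕ} (σ : ℂ ≃+* ℂ)
    (hσ : ∀ z : ℂ, z ^ N = 1 → σ z = z ^ k) {x : A} (hx : x ^ N = 1) :
    σ (f x) = f (x ^ k) := by
  obtain ⟨a, b, ha, hb, rfl⟩ := hf
  rw [Pi.sub_apply, Pi.sub_apply, map_sub, galois_apply σ hσ ha x hx, galois_apply σ hσ hb x hx]

theorem gen_mem_field {f : A → ℂ} (hf : IsGeneralizedCharacter A f) {N : ℕ} [NeZero N] {x : A}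
    (hx : x ^ N = 1) : f x ∈ ℚ⟮rootN N⟯ := by
  obtain ⟨a, b, ha, hb, rfl⟩ := hf
  have key : ∀ χ : A → ℂ, IsCharacter A χ → χ x ∈ ℚ⟮rootN N⟯ := by
    rintro χ ⟨n, ρ, rfl⟩
    obtain ⟨v, μ, hμ, -, -, -, h1, -⟩ := exists_eigenbasis_rep ρ x
    rw [h1]
    refine sum_mem fun i _ => ?_
    have hN : μ i ^ N = 1 := by
      obtain ⟨d, hd⟩ := orderOf_dvd_of_pow_eq_one hx
      rw [hd, pow_mul, hμ i, one_pow]
    obtain ⟨j, -, hj⟩ := (rootN_prim N).eq_pow_of_pow_eq_one hN
    rw [← hj]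
    exact pow_mem (IntermediateField.mem_adjoin_simple_self ℚ _) j
  exact sub_mem (key a ha) (key b hb)

end Basic

section Local

variable {M : Ideal AlgInt} [M.IsPrime] {p : ℕ} [Fact p.Prime]
variable {A : Type u} [Group A] [Fintype A]

theorem gen_congr_one (hpM : (p : AlgInt) ∈ M) (hA : IsPGroup p A) {f : A → ℂ}
    (hf : IsGeneralizedCharacter A f) (x : A) : MemLocalIdeal M (f x - f 1) := by
  obtain ⟨k, hk⟩ := hA x
  have h1 : pPrimePart p x = 1 := by
    obtain ⟨i, -, hi⟩ := (Nat.dvd_prime_pow (Fact.out : p.Prime)).1 (orderOf_dvd_of_pow_eq_one hk)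
    simpa using pPrimePart_mul (p := p) (u := x) (y := (1 : A)) (Commute.one_right x) ⟨i, hi⟩
      (by simp [(Fact.out : p.Prime).ne_one])
  obtain ⟨a, b, ha, hb, rfl⟩ := hf
  have e1 := memLocalIdeal_char_sub hpM ha x
  have e2 := memLocalIdeal_char_sub hpM hb x
  rw [h1] at e1 e2
  have := MemLocalIdeal.sub' e1 e2
  convert this using 1
  simp only [Pi.sub_apply]
  ring

theorem not_mem_mul {a b : ℂ} (ha : a ∈ loc M) (hb : b ∈ loc M) (ha' : ¬ MemLocalIdeal M a)
    (hb' : ¬ MemLocalIdeal M b) : ¬ MemLocalIdeal M (a * b) := fun h =>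
  (MemLocalIdeal.mem_or_mem ha hb h).elim ha' hb'

theorem not_mem_prod {ι : Type*} (s : Finset ι) {f : ι → ℂ}
    (h : ∀ i ∈ s, f i ∈ loc M ∧ ¬ MemLocalIdeal M (f i)) :
    ¬ MemLocalIdeal M (∏ i ∈ s, f i) :=
  (Finset.prod_induction f (fun z => z ∈ loc M ∧ ¬ MemLocalIdeal M z)
    (fun _ _ ha hb => ⟨mul_mem ha.1 hb.1, not_mem_mul ha.1 hb.1 ha.2 hb.2⟩)
    ⟨one_mem _, not_memLocalIdeal_one⟩ h).2

/-- An integral element of norm one is a unit at `M`. -/
theorem not_mem_of_norm_one {z : ℂ} (hz : IsIntegral ℤ z) (h1 : z * conj z = 1) :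
    ¬ MemLocalIdeal M z := fun h => not_memLocalIdeal_one (M := M) (h1 ▸
  MemLocalIdeal.mul_right' h (isIntegral_mem_loc (map_isIntegral_int (starRingEnd ℂ) hz)))

/-- An integer valued generalized character is invertible up to the product of its values. -/
theorem exists_inverse_poly {W : A → ℂ} (hW : IsGeneralizedCharacter A W) (T : Finset ℤ) :
    ∃ Z : A → ℂ, IsGeneralizedCharacter A Z ∧
      ∀ x, ∏ v ∈ T, ((v : ℂ) - W x) = ((∏ v ∈ T, v : ℤ) : ℂ) - W x * Z x := by
  induction T using Finset.induction with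
  | empty => exact ⟨_, isGen_intConst 0, fun x => by simp⟩
  | insert a T ha ih =>
    obtain ⟨Z, hZ, hT⟩ := ih
    refine ⟨fun x => ((∏ v ∈ T, v : ℤ) : ℂ) + ((a : ℂ) * Z x + -(W x * Z x)),
      isGen_add (isGen_intConst _) (isGen_add (isGen_mul (isGen_intConst a) hZ)
        (isGen_neg (isGen_mul hW hZ))), fun x => ?_⟩
    rw [Finset.prod_insert ha, Finset.prod_insert ha, hT x]
    push_cast
    ring

/-- A generalized character with unit values is invertible up to an integer prime to `p`. -/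
theorem exists_genInverse (hpM : (p : AlgInt) ∈ M) (hA : ∀ a b : A, a * b = b * a) {g : A → ℂ}
    (hg : IsGeneralizedCharacter A g) (hunit : ∀ x, ¬ MemLocalIdeal M (g x)) :
    ∃ n : ℕ, ¬ p ∣ n ∧ ∃ g' : A → ℂ, IsGeneralizedCharacter A g' ∧ ∀ x, g x * g' x = n := by
  classical
  have hp : p.Prime := Fact.out
  obtain ⟨q, hq⟩ : ∃ q, q = Nat.card A := ⟨_, rfl⟩
  haveI : NeZero q := ⟨hq ▸ Nat.card_pos.ne'⟩
  have hx : ∀ x : A, x ^ q = 1 := fun x => hq ▸ pow_card_eq_one'
  let φ : ℕ → A →* A := fun k =>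
    { toFun := fun x => x ^ k
      map_one' := one_pow k
      map_mul' := fun a b => (show Commute a b from hA a b).mul_pow k }
  have hk0 : 1 % q ∈ unitsBelow q := by
    refine mem_unitsBelow.2 ⟨Nat.mod_lt _ (NeZero.pos q), ?_⟩
    rw [Nat.coprime_iff_gcd_eq_one, ← Nat.gcd_rec, Nat.gcd_one_right]
  have hint : ∀ x : A, ∃ m : ℤ, (m : ℂ) = ∏ k ∈ unitsBelow q, g (x ^ k) := fun x =>
    exists_int_prod_conjugates (gen_mem_field hg (hx x)) (gen_isIntegral hg x) _
      fun k _ σ hσ => gen_galois hg σ hσ (hx x)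
  choose m hm using hint
  obtain ⟨W, hWdef⟩ : ∃ W : A → ℂ, W = ∏ k ∈ unitsBelow q, fun x => g (φ k x) := ⟨_, rfl⟩
  have hWm : ∀ x, W x = (m x : ℂ) := fun x => by
    rw [hWdef, Finset.prod_apply, hm x]
    rfl
  have hW : IsGeneralizedCharacter A W := hWdef ▸ isGen_prod _ fun k _ => isGen_comp (φ k) hg
  obtain ⟨Z, hZ, hprod⟩ := exists_inverse_poly hW (univ.image m)
  obtain ⟨c, hc⟩ : ∃ c : ℤ, c = ∏ v ∈ univ.image m, v := ⟨_, rfl⟩
  have hWZ : ∀ x, W x * Z x = (c : ℂ) := fun x => by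
    have h := hprod x
    rw [Finset.prod_eq_zero (mem_image_of_mem m (mem_univ x)) (by rw [hWm, sub_self]), ← hc] at h
    linear_combination h
  have hcp : ¬ (p : ℤ) ∣ c := by
    rw [hc]
    intro h
    obtain ⟨v, hv, hdvd⟩ := (Nat.prime_iff_prime_int.1 hp).exists_mem_finset_dvd h
    obtain ⟨x, -, rfl⟩ := mem_image.1 hv
    have hne : ¬ MemLocalIdeal M (m x : ℂ) := by
      rw [hm x]
      exact not_mem_prod _ fun k _ => ⟨isIntegral_mem_loc (gen_isIntegral hg _), hunit _⟩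
    obtain ⟨j, hj⟩ := hdvd
    refine hne ?_
    rw [hj]
    push_cast
    exact MemLocalIdeal.mul_right' (memLocalIdeal_prime hpM) (intCast_mem (loc M) j)
  refine ⟨c.natAbs, fun h => hcp (Int.natCast_dvd.2 h),
    fun x => (c.sign : ℂ) * ((∏ k ∈ (unitsBelow q).erase (1 % q), g (φ k x)) * Z x), ?_, fun x => ?_⟩
  · refine isGen_mul (isGen_intConst _) (isGen_mul ?_ hZ)
    convert isGen_prod ((unitsBelow q).erase (1 % q)) (f := fun k x => g (φ k x))
      (fun k _ => isGen_comp (φ k) hg) using 1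
    funext y
    rw [Finset.prod_apply]
  · have h1 : g x * ∏ k ∈ (unitsBelow q).erase (1 % q), g (φ k x) = W x := by
      rw [hWdef, Finset.prod_apply, ← Finset.mul_prod_erase _ _ hk0]
      congr 2
      show x = x ^ (1 % q)
      rw [← pow_eq_pow_mod 1 (hx x), pow_one]
    have habs : ((c.natAbs : ℕ) : ℂ) = ((c.sign * c : ℤ) : ℂ) := by
      rw [Int.sign_mul_self_eq_natAbs, Int.cast_natCast]
    rw [habs]
    push_cast
    linear_combination (c.sign : ℂ) * Z x * h1 + (c.sign : ℂ) * hWZ x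

/-- Generalized characters up to a denominator prime to `p`. -/
def IsLocGen (p : ℕ) (f : A → ℂ) : Prop :=
  ∃ n : ℕ, ¬ p ∣ n ∧ IsGeneralizedCharacter A fun x => (n : ℂ) * f x

theorem IsLocGen.of_gen {f : A → ℂ} (h : IsGeneralizedCharacter A f) : IsLocGen p f :=
  ⟨1, (Fact.out : p.Prime).not_dvd_one, by simpa using h⟩

theorem IsLocGen.mul {f g : A → ℂ} (hf : IsLocGen p f) (hg : IsLocGen p g) :
    IsLocGen p fun x => f x * g x := by
  obtain ⟨n, hn, hf⟩ := hf
  obtain ⟨m, hm, hg⟩ := hg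
  refine ⟨n * m, fun h => ((Fact.out : p.Prime).dvd_mul.1 h).elim hn hm, ?_⟩
  convert isGen_mul hf hg using 1
  funext x
  simp only [Pi.mul_apply]
  push_cast
  ring

theorem IsLocGen.prod {ι : Type*} (s : Finset ι) {f : ι → A → ℂ}
    (h : ∀ i ∈ s, IsLocGen p (f i)) : IsLocGen p fun x => ∏ i ∈ s, f i x := by
  classical
  induction s using Finset.induction with
  | empty => simpa using IsLocGen.of_gen (p := p) (isGen_intConst (A := A) 1)
  | insert a s ha ih =>
    simp only [Finset.prod_insert ha]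
    exact (h a (mem_insert_self a s)).mul (ih fun i hi => h i (mem_insert_of_mem hi))

theorem IsLocGen.pow {f : A → ℂ} (hf : IsLocGen p f) (k : ℕ) : IsLocGen p fun x => f x ^ k := by
  induction k with
  | zero => simpa using IsLocGen.of_gen (p := p) (isGen_intConst (A := A) 1)
  | succ k ih => simp only [pow_succ]; exact ih.mul hf

theorem IsLocGen.inv (hpM : (p : AlgInt) ∈ M) (hA : ∀ a b : A, a * b = b * a) {f : A → ℂ}
    (hf : IsGeneralizedCharacter A f) (hunit : ∀ x, ¬ MemLocalIdeal M (f x)) :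
    IsLocGen p fun x => (f x)⁻¹ := by
  obtain ⟨n, hn, g, hg, hfg⟩ := exists_genInverse hpM hA hf hunit
  refine ⟨n, hn, ?_⟩
  convert hg using 1
  funext x
  have h0 : f x ≠ 0 := fun h => hunit x (h ▸ MemLocalIdeal.zero')
  rw [← hfg x]
  field_simp

theorem IsLocGen.zpow (hpM : (p : AlgInt) ∈ M) (hA : ∀ a b : A, a * b = b * a) {f : A → ℂ}
    (hf : IsGeneralizedCharacter A f) (hunit : ∀ x, ¬ MemLocalIdeal M (f x)) (k : ℤ) :
    IsLocGen p fun x => f x ^ k := by
  obtain ⟨j, rfl | rfl⟩ := k.eq_nat_or_neg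
  · simp only [zpow_natCast]
    exact (IsLocGen.of_gen hf).pow j
  · simp only [zpow_neg, zpow_natCast, ← inv_pow]
    exact (IsLocGen.inv hpM hA hf hunit).pow j

open scoped Classical in
/-- A function with integral values which is a generalized character up to a denominator prime
to `p` agrees away from the identity with a generalized character. -/
theorem IsLocGen.exists_gen (hP : IsPGroup p A) (hA : ∀ a b : A, a * b = b * a) {f : A → ℂ}
    (hf : IsLocGen p f) (hint : ∀ x, x ≠ 1 → IsIntegral ℤ (f x)) :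
    ∃ g : A → ℂ, IsGeneralizedCharacter A g ∧ ∀ x, x ≠ 1 → g x = f x := by
  have hp : p.Prime := Fact.out
  haveI := irrFintype A
  obtain ⟨n, hn, hgen⟩ := hf
  obtain ⟨k, hk⟩ := IsPGroup.iff_card.1 hP
  have hcop : IsCoprime (n : ℤ) ((Nat.card A : ℕ) : ℤ) := by
    rw [Int.isCoprime_iff_gcd_eq_one, Int.gcd_natCast_natCast, hk]
    exact Nat.Coprime.pow_right k (Nat.coprime_comm.1 (hp.coprime_iff_not_dvd.2 hn))
  obtain ⟨a, b, hab⟩ := hcop
  -- the value at the identity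
  obtain ⟨w, hw⟩ : ∃ w : ℤ, (n : ℂ) * f 1 = (w : ℂ) := by
    obtain ⟨χ, ψ, hχ, hψ, he⟩ := hgen
    obtain ⟨i, hi⟩ : ∃ i : ℕ, χ 1 = i := by
      obtain ⟨m, ρ, rfl⟩ := hχ
      exact ⟨_, Representation.char_one ρ⟩
    obtain ⟨j, hj⟩ : ∃ j : ℕ, ψ 1 = j := by
      obtain ⟨m, ρ, rfl⟩ := hψ
      exact ⟨_, Representation.char_one ρ⟩
    exact ⟨(i : ℤ) - j, by rw [show (n : ℂ) * f 1 = χ 1 - ψ 1 from congrFun he 1, hi, hj]; simp⟩
  refine ⟨fun x => if x = 1 then ((a * w : ℤ) : ℂ) else f x,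
    isGeneralized_iff_inner.2 ⟨fun x y => ?_, fun l => ?_⟩, fun x hx => if_neg hx⟩
  · rw [show y * x * y⁻¹ = x by rw [hA y x, mul_inv_cancel_right]]
  obtain ⟨N, hN⟩ := (isGeneralized_iff_inner.1 hgen).2 l
  have hl1 : (l : A → ℂ) 1 = 1 := irr_abelian_degree hA l.2
  have hcard : (Nat.card A : ℂ) ≠ 0 := Chars.card_ne_zero A
  obtain ⟨T, hT⟩ : ∃ T : ℂ, T = ∑ x ∈ univ.erase (1 : A), f x * conj ((l : A → ℂ) x) := ⟨_, rfl⟩
  have h1 : (n : ℂ) * T = (Nat.card A : ℂ) * N - w := by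
    have h2 : (Nat.card A : ℂ) * (N : ℂ) = ∑ x, (n : ℂ) * f x * conj ((l : A → ℂ) x) := by
      rw [← hN, inner_def, mul_inv_cancel_left₀ hcard]
    rw [h2, ← Finset.add_sum_erase _ _ (mem_univ (1 : A)), hl1, map_one, mul_one, hw, hT,
      Finset.mul_sum, add_sub_cancel_left]
    exact Finset.sum_congr rfl fun x _ => by ring
  obtain ⟨t, ht'⟩ : ∃ t : ℤ, (t : ℂ) = T := by
    refine exists_int_of_rat ?_ ⟨(((Nat.card A : ℤ) * N - w : ℤ) : ℚ) / (n : ℚ), ?_⟩
    · rw [hT]
      exact IsIntegral.sum _ fun x hx => (hint x (mem_erase.1 hx).1).mul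
        (map_isIntegral_int (starRingEnd ℂ) (char_isIntegral (isCharacter_of_irr l.2) x))
    · have hn0 : (n : ℂ) ≠ 0 := Nat.cast_ne_zero.2 fun h => hn (h ▸ dvd_zero p)
      push_cast
      rw [← h1, mul_div_cancel_left₀ _ hn0]
  have ht := ht'.symm
  rw [ht] at h1
  have h1' : (n : ℤ) * t = (Nat.card A : ℤ) * N - w := by exact_mod_cast h1
  refine ⟨a * N + b * t, ?_⟩
  rw [inner_def, ← Finset.add_sum_erase _ _ (mem_univ (1 : A)), if_pos rfl, hl1, map_one, mul_one,
    Finset.sum_congr rfl (g := fun x => f x * conj ((l : A → ℂ) x))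
      fun x hx => by rw [if_neg (mem_erase.1 hx).1], ← hT, ht, inv_mul_eq_iff_eq_mul₀ hcard]
  have h3 : a * w + t = (Nat.card A : ℤ) * (a * N + b * t) := by
    linear_combination a * h1' - t * hab
  exact_mod_cast h3

end Local

/-- An algebraic integer of a cyclotomic field whose conjugates have norm one is a root of
unity. -/
theorem exists_pow_eq_one {N : ℕ} [NeZero N] {y : ℂ} (hy : y ∈ ℚ⟮rootN N⟯) (hint : IsIntegral ℤ y)
    (hconj : ∀ k ∈ unitsBelow N, ∀ σ : ℂ ≃+* ℂ, (∀ z : ℂ, z ^ N = 1 → σ z = z ^ k) → ‖σ y‖ = 1) :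
    ∃ n : ℕ, 0 < n ∧ y ^ n = 1 := by
  haveI hcyc : IsCyclotomicExtension {N} ℚ ℚ⟮rootN N⟯ :=
    (IntermediateField.isCyclotomicExtension_singleton_iff_eq_adjoin N _ _ _ (rootN_prim N)).mpr
      rfl
  haveI : NumberField ℚ⟮rootN N⟯ := IsCyclotomicExtension.numberField {N} ℚ _
  have hint' : IsIntegral ℤ (⟨y, hy⟩ : ℚ⟮rootN N⟯) :=
    (isIntegral_algHom_iff ((IntermediateField.val _).restrictScalars ℤ) Subtype.val_injective).1
      hint
  obtain ⟨b, hb⟩ := exists_cyclo_rep hy hint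
  obtain ⟨n, hn, hyn⟩ := NumberField.Embeddings.pow_eq_one_of_norm_eq_one ℚ⟮rootN N⟯ ℂ hint' fun φ => by
    set ζ : ℚ⟮rootN N⟯ := ⟨rootN N, IntermediateField.mem_adjoin_simple_self ℚ _⟩ with hζdef
    have hζ : IsPrimitiveRoot ζ N :=
      IsPrimitiveRoot.of_map_of_injective (f := algebraMap ℚ⟮rootN N⟯ ℂ) (rootN_prim N)
        (RingHom.injective _)
    obtain ⟨k, hk, hcop, hkζ⟩ :=
      (rootN_prim N).isPrimitiveRoot_iff.1
        (hζ.map_of_injective φ.injective)
    obtain ⟨σ, hσ⟩ := exists_galois_pow N hcop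
    have hy' : (⟨y, hy⟩ : ℚ⟮rootN N⟯) = ∑ e ∈ range N.totient, (b e : ℚ⟮rootN N⟯) * ζ ^ e := by
      apply Subtype.ext
      rw [hζdef]
      push_cast
      exact hb
    rw [hy', map_sum, show ∑ e ∈ range N.totient, φ ((b e : ℚ⟮rootN N⟯) * ζ ^ e) = σ y from ?_]
    · exact hconj k (mem_unitsBelow.2 ⟨hk, hcop⟩) σ hσ
    rw [hb, map_sum]
    refine Finset.sum_congr rfl fun e _ => ?_
    rw [map_mul, map_mul, map_intCast, map_intCast, map_pow, map_pow,
      hσ _ (rootN_prim N).pow_eq_one, hkζ]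
  exact ⟨n, hn, congrArg Subtype.val hyn⟩

/-- A root of unity congruent to one modulo `M` has `p`-power order. -/
theorem exists_ppow_eq_one {M : Ideal AlgInt} [M.IsPrime] {p : ℕ} [Fact p.Prime]
    (hpM : (p : AlgInt) ∈ M) {z : ℂ} (hz : ∃ n : ℕ, 0 < n ∧ z ^ n = 1)
    (h1 : MemLocalIdeal M (z - 1)) : ∃ a : ℕ, z ^ p ^ a = 1 := by
  obtain ⟨n, hn, hzn⟩ := hz
  refine ⟨n.factorization p, PrincExt.root_eq_one hpM (Nat.not_dvd_ordCompl (Fact.out : p.Prime) hn.ne')
    (by rw [← pow_mul, Nat.ordProj_mul_ordCompl_eq_self, hzn]) ?_ ?_⟩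
  · exact pow_mem (isIntegral_mem_loc (IsIntegral.of_pow hn (by rw [hzn]; exact isIntegral_one))) _
  · rw [← geom_sum_mul]
    exact MemLocalIdeal.mul_left' (sum_mem fun j _ => pow_mem (isIntegral_mem_loc
      (IsIntegral.of_pow hn (by rw [hzn]; exact isIntegral_one))) _) h1

end CfsgLib.FreeColumns
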