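import Cfsg.Agent.Lib.BlockOrth.ContribAverage
import Cfsg.Agent.Lib.BlockOrth.RankOne
import Cfsg.Agent.Lib.BlockOrth.MajorSubsection
import Cfsg.Agent.Lib.Blocks.SecTau
import Cfsg.Agent.Lib.Blocks.RegularTwist
import Cfsg.Agent.Lib.Blocks.SubRed
import Cfsg.Agent.Lib.Blocks.StarIntegral
import Cfsg.Agent.Lib.Blocks.StarNonzero

/-!
# Blocks whose characters agree on regular elements, and their section coefficients
-/

set_option autoImplicit false
set_option linter.style.haveILetI false
set_option linter.unusedSectionVars false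

namespace CfsgLib.FreeColumns

open Cfsg CfsgLib.Chars CfsgLib.Blocks CfsgLib.BlockOrth Finset
open scoped ComplexConjugate IntermediateField

universe u

/-- The sum of the coefficients of a function at the characters of a block. -/
noncomputable def blockCoef {L : Type u} [Group L] [Fintype L] (b : Set (IrrCharacter L))
    (F : L → ℂ) : ℂ :=
  ∑ᶠ η ∈ b, classInner F (η : L → ℂ)

/-- A block with `q = p ^ d` characters which agree on regular elements. -/
structure IsUniformBlock {L : Type u} [Group L] [Fintype L] (M : Ideal AlgInt) (p : ℕ)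
    [Fact p.Prime] (b : Set (IrrCharacter L)) (q : ℕ) : Prop where
  isBlock : IsPBlock M b
  card : Nat.card b = q
  pow : p ^ blockDefect p b = q
  reg : ∀ η ∈ b, ∀ η' ∈ b, ∀ y : L, ¬ p ∣ orderOf y → (η : L → ℂ) y = (η' : L → ℂ) y
  gram : ∀ η ∈ b, (q : ℂ) * classInner (pRegularPart p (η : L → ℂ)) (η : L → ℂ) = 1

variable {M : Ideal AlgInt} [M.IsPrime] {p : ℕ} [Fact p.Prime]

section Facts

variable {L : Type u} [Group L] [Fintype L] {b : Set (IrrCharacter L)} {q : ℕ}

theorem blockCoef_eq_sum [Fintype (IrrCharacter L)] [DecidablePred (· ∈ b)] (F : L → ℂ) :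
    blockCoef b F = ∑ η ∈ univ.filter (· ∈ b), classInner F (η : L → ℂ) :=
  finsum_mem_eq_sum_of_inter_support_eq _ (by ext; simp)

theorem pRegularPart_eq (hreg : ∀ η ∈ b, ∀ η' ∈ b, ∀ y : L, ¬ p ∣ orderOf y →
      (η : L → ℂ) y = (η' : L → ℂ) y) {η η' : IrrCharacter L} (hη : η ∈ b) (hη' : η' ∈ b) :
    pRegularPart p (η : L → ℂ) = pRegularPart p (η' : L → ℂ) := by
  funext y
  rw [pRegularPart_apply, pRegularPart_apply]
  split_ifs with h
  · rfl
  · exact hreg η hη η' hη' y h

/-- A block of rank one with as many characters as its defect allows. -/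
theorem isUniformBlock_of_rank_one (hpM : (p : AlgInt) ∈ M) (hb : IsPBlock M b)
    (hl : blockRank p b = 1) (hcard : Nat.card b = q) (hpow : p ^ blockDefect p b = q) :
    IsUniformBlock M p b q := by
  classical
  haveI := irrFintype L
  obtain ⟨φ, d, -, hd, hsq⟩ := exists_decomposition_of_rank_one hpM hb hl
  rw [finsum_mem_eq_sum_of_inter_support_eq (t := univ.filter (· ∈ b)) _ (by ext; simp), hpow,
    ← hcard] at hsq
  have hfc : (univ.filter (· ∈ b)).card = Nat.card b := by
    rw [← Fintype.card_subtype, ← Nat.card_eq_fintype_card]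
  have h1y : ¬ p ∣ orderOf (1 : L) := by simp [(Fact.out : p.Prime).ne_one]
  have hpos : ∀ χ ∈ univ.filter (· ∈ b), 1 ≤ d χ ^ 2 := fun χ hχ => by
    refine Nat.one_le_pow _ _ (Nat.pos_of_ne_zero fun h0 => ?_)
    have h := hd χ (mem_filter.1 hχ).2 1 h1y
    rw [h0, Nat.cast_zero, zero_mul] at h
    exact irr_degree_ne_zero χ.2 h
  have hone : ∀ χ ∈ b, d χ = 1 := by
    intro χ hχ
    have h0 : ∑ η ∈ univ.filter (· ∈ b), 1 = ∑ η ∈ univ.filter (· ∈ b), d η ^ 2 := by
      rw [hsq, Finset.sum_const, smul_eq_mul, mul_one, hfc]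
    have h2 := (Finset.sum_eq_sum_iff_of_le hpos).1 h0 χ (mem_filter.2 ⟨mem_univ _, hχ⟩)
    exact (Nat.pow_eq_one.1 h2.symm).resolve_right two_ne_zero
  have hreg : ∀ η ∈ b, ∀ η' ∈ b, ∀ y : L, ¬ p ∣ orderOf y → (η : L → ℂ) y = (η' : L → ℂ) y :=
    fun η hη η' hη' y hy => by rw [hd η hη y hy, hd η' hη' y hy, hone η hη, hone η' hη']
  refine ⟨hb, hcard, hpow, hreg, fun η hη => ?_⟩
  have h := blockRank_eq_sum (p := p) hpM hb
  rw [hl, Nat.cast_one, Finset.sum_congr rfl (g := fun _ => classInner (pRegularPart p (η : L → ℂ))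
    (η : L → ℂ)) (fun χ hχ => ?_), Finset.sum_const, hfc, hcard, nsmul_eq_mul] at h
  · exact h.symm
  · have e := pRegularPart_eq hreg (mem_filter.1 hχ).2 hη
    have key : ∀ f : L → ℂ, classInner (pRegularPart p f) f =
        classInner (pRegularPart p f) (pRegularPart p f) := fun f => by
      rw [classInner_pRegularPart_right, pRegularPart_pRegularPart]
    rw [key, key, e]

namespace IsUniformBlock

variable (hU : IsUniformBlock M p b q)
include hU

theorem q_ne_zero : (q : ℂ) ≠ 0 := by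
  rw [← hU.pow]
  exact Nat.cast_ne_zero.2 (pow_ne_zero _ (Fact.out : p.Prime).ne_zero)

theorem card_filter [Fintype (IrrCharacter L)] [DecidablePred (· ∈ b)] :
    (univ.filter (· ∈ b)).card = q := by
  rw [← hU.card, Nat.card_eq_fintype_card, Fintype.card_subtype]

theorem degree_eq {η η' : IrrCharacter L} (hη : η ∈ b) (hη' : η' ∈ b) :
    (η : L → ℂ) 1 = (η' : L → ℂ) 1 :=
  hU.reg η hη η' hη' 1 (by simp [(Fact.out : p.Prime).ne_one])

theorem charDegree_eq {η η' : IrrCharacter L} (hη : η ∈ b) (hη' : η' ∈ b) :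
    charDegree (η : L → ℂ) = charDegree (η' : L → ℂ) :=
  Nat.cast_injective (R := ℂ) (by rw [charDegree_cast, charDegree_cast, hU.degree_eq hη hη'])

theorem degVal_eq {η : IrrCharacter L} (hη : η ∈ b) : degVal p η = blockMin p b := by
  obtain ⟨ξ, hξ, he⟩ := exists_degVal_eq_blockMin (p := p) (B := b) ⟨η, hη⟩
  rw [← he, degVal, degVal, hU.charDegree_eq hη hξ]

theorem height_eq_zero {η : IrrCharacter L} (hη : η ∈ b) : blockHeight p b (η : L → ℂ) = 0 :=
  (blockHeight_eq_zero_iff hη).2 (hU.degVal_eq hη)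

theorem rank (hpM : (p : AlgInt) ∈ M) : blockRank p b = 1 := by
  classical
  haveI := irrFintype L
  have h := blockRank_eq_sum (p := p) hpM hU.isBlock
  rw [Finset.sum_congr rfl (g := fun _ => (q : ℂ)⁻¹) (fun χ hχ =>
    eq_inv_of_mul_eq_one_right (hU.gram χ (mem_filter.1 hχ).2)), Finset.sum_const, hU.card_filter,
    nsmul_eq_mul, mul_inv_cancel₀ hU.q_ne_zero] at h
  exact_mod_cast h

theorem dInt_eq_one (hpM : (p : AlgInt) ∈ M) {η η' : IrrCharacter L} (hη : η ∈ b) (hη' : η' ∈ b) :
    dInt p b η η' = 1 := by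
  apply Int.cast_injective (α := ℂ)
  rw [dInt_spec hpM hη, hU.pow, pRegularPart_eq hU.reg hη hη', hU.gram η' hη', Int.cast_one]

theorem blockCoeff_one {η : IrrCharacter L} (hη : η ∈ b) :
    blockCoeff b (1 : L) = (Nat.card L : ℂ)⁻¹ * ((q : ℂ) * (η : L → ℂ) 1 ^ 2) := by
  classical
  haveI := irrFintype L
  rw [blockCoeff, finsum_mem_eq_sum_of_inter_support_eq (t := univ.filter (· ∈ b)) _ (by ext; simp)]
  congr 1
  rw [Finset.sum_congr rfl (g := fun _ => (η : L → ℂ) 1 ^ 2) fun χ hχ => ?_, Finset.sum_const,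
    hU.card_filter, nsmul_eq_mul]
  rw [hU.degree_eq (mem_filter.1 hχ).2 hη, sq, irr_apply_one, map_natCast]

theorem blockPart_regular (F : L → ℂ) {η : IrrCharacter L} (hη : η ∈ b) {y : L}
    (hy : ¬ p ∣ orderOf y) : blockPart b F y = blockCoef b F * (η : L → ℂ) y := by
  classical
  haveI := irrFintype L
  rw [blockPart, sum_mem_block, blockCoef_eq_sum, Finset.sum_mul]
  refine Finset.sum_congr rfl fun χ hχ => ?_
  rw [hU.reg χ (mem_filter.1 hχ).2 η hη y hy, inner_congr_inst]

theorem pullback {K : Type u} [Group K] [Fintype K] (hpM : (p : AlgInt) ∈ M) (φ : K ≃* L) :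
    IsUniformBlock M p (pullIrr φ '' b) q := by
  have hinj : Function.Injective (pullIrr φ : IrrCharacter L → IrrCharacter K) := by
    intro x y h
    refine Subtype.ext (funext fun l => ?_)
    simpa [pullIrr_apply] using congrFun (congrArg Subtype.val h) (φ.symm l)
  have hord : ∀ y : K, orderOf (φ y) = orderOf y := fun y => φ.orderOf_eq y
  have hdeg : ∀ x : IrrCharacter L,
      charDegree (pullIrr φ x : K → ℂ) = charDegree (x : L → ℂ) := fun x =>
    Nat.cast_injective (R := ℂ) (by rw [charDegree_cast, charDegree_cast, pullIrr_apply, map_one])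
  have hcardK : Nat.card K = Nat.card L := Nat.card_congr φ.toEquiv
  refine ⟨isPBlock_image_pullIrr φ hU.isBlock, ?_, ?_, ?_, ?_⟩
  · rw [Nat.card_image_of_injective hinj, hU.card]
  · rw [← hU.pow, blockDefect_eq, blockDefect_eq, hcardK, blockMin, blockMin, Set.image_image]
    simp only [hdeg]
  · rintro _ ⟨x, hx, rfl⟩ _ ⟨x', hx', rfl⟩ y hy
    rw [pullIrr_apply, pullIrr_apply]
    exact hU.reg x hx x' hx' _ (by rwa [hord])
  · rintro _ ⟨x, hx, rfl⟩
    rw [← hU.gram x hx, inner_def, inner_def, hcardK]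
    congr 2
    refine Fintype.sum_equiv φ.toEquiv _ _ fun y => ?_
    simp only [pRegularPart_apply, pullIrr_apply, MulEquiv.toEquiv_eq_coe, MulEquiv.coe_toEquiv,
      hord]

end IsUniformBlock

theorem blockCoef_pullback {K : Type u} [Group K] [Fintype K] (φ : K ≃* L)
    (b : Set (IrrCharacter L)) (F : L → ℂ) :
    blockCoef (pullIrr φ '' b) (fun k => F (φ k)) = blockCoef b F := by
  have hinj : Function.Injective (pullIrr φ : IrrCharacter L → IrrCharacter K) := by
    intro x y h
    refine Subtype.ext (funext fun l => ?_)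
    simpa [pullIrr_apply] using congrFun (congrArg Subtype.val h) (φ.symm l)
  rw [blockCoef, blockCoef, finsum_mem_image hinj.injOn]
  refine finsum_congr fun x => finsum_congr fun _ => ?_
  rw [inner_def, inner_def, Nat.card_congr φ.toEquiv]
  congr 1
  exact Fintype.sum_equiv φ.toEquiv _ _ fun y => rfl

end Facts

section Section

variable {G : Type u} [Group G] [Fintype G] {H : Subgroup G} [Fintype H] {x : G}
  {b : Set (IrrCharacter H)} {q : ℕ}

/-- The coefficient of a character at a subsection. -/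
noncomputable def secCoef (b : Set (IrrCharacter H)) (x : G) (χ : G → ℂ) : ℂ :=
  blockCoef b (secFun H x χ)

theorem secCoef_isIntegral (hH : ∀ c : G, c ∈ H ↔ c * x = x * c) (χ : IrrCharacter G) :
    IsIntegral ℤ (secCoef b x (χ : G → ℂ)) := by
  classical
  haveI := irrFintype H
  rw [secCoef, blockCoef_eq_sum]
  refine IsIntegral.sum _ fun θ _ => ?_
  obtain ⟨m, hm⟩ := inner_irr_right_nat (isCharacter_restrict H (isCharacter_of_irr χ.2)) θ
  rw [inner_secFun_eq hH, hm]
  refine (IsIntegral.of_pow (orderOf_pos x) (by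
    rw [centralScalar_self_pow hH (pow_orderOf_eq_one x) θ]; exact isIntegral_one)).mul ?_
  exact_mod_cast isIntegral_algebraMap (R := ℤ) (A := ℂ) (x := (m : ℤ))

theorem secCoef_galois (hH : ∀ c : G, c ∈ H ↔ c * x = x * c) {N k : ℕ} (hN : x ^ N = 1)
    (hk : k.Coprime (orderOf x)) {σ : ℂ ≃+* ℂ} (hσ : ∀ z : ℂ, z ^ N = 1 → σ z = z ^ k)
    (χ : IrrCharacter G) : σ (secCoef b x (χ : G → ℂ)) = secCoef b (x ^ k) (χ : G → ℂ) := by
  classical
  haveI := irrFintype H
  have hHk := centralizer_pow_of_coprime hH hk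
  rw [secCoef, secCoef, blockCoef_eq_sum, blockCoef_eq_sum, map_sum]
  refine Finset.sum_congr rfl fun θ _ => ?_
  obtain ⟨m, hm⟩ := inner_irr_right_nat (isCharacter_restrict H (isCharacter_of_irr χ.2)) θ
  rw [inner_secFun_eq hH, inner_secFun_eq hHk, hm, map_mul, map_natCast,
    hσ _ (centralScalar_self_pow hH hN θ), ← centralScalar_pow θ (mem_center_of_self hH)]
  rfl

theorem secCoef_mem_field (hH : ∀ c : G, c ∈ H ↔ c * x = x * c) {N : ℕ} [NeZero N]
    (hN : x ^ N = 1) (χ : IrrCharacter G) :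
    secCoef b x (χ : G → ℂ) ∈ ℚ⟮CharApps.rootN N⟯ := by
  classical
  haveI := irrFintype H
  rw [secCoef, blockCoef_eq_sum]
  refine sum_mem fun θ _ => ?_
  obtain ⟨m, hm⟩ := inner_irr_right_nat (isCharacter_restrict H (isCharacter_of_irr χ.2)) θ
  rw [inner_secFun_eq hH, hm]
  refine mul_mem ?_ (natCast_mem _ _)
  obtain ⟨i, -, hi⟩ :=
    (CharApps.rootN_prim N).eq_pow_of_pow_eq_one (centralScalar_self_pow hH hN θ)
  rw [← hi]
  exact pow_mem (IntermediateField.mem_adjoin_simple_self ℚ _) i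

theorem contrib_eq_secCoef [Fintype (IrrCharacter H)] [DecidablePred (· ∈ b)]
    (hpM : (p : AlgInt) ∈ M) (hU : IsUniformBlock M p b q) (χ ψ : IrrCharacter G) :
    contrib p b x χ ψ = secCoef b x (χ : G → ℂ) * conj (secCoef b x (ψ : G → ℂ)) := by
  rw [secCoef, secCoef, blockCoef_eq_sum, blockCoef_eq_sum, map_sum, Finset.sum_mul_sum, contrib]
  refine Finset.sum_congr rfl fun θ hθ => Finset.sum_congr rfl fun θ' hθ' => ?_
  rw [hU.dInt_eq_one hpM (mem_filter.1 hθ).2 (mem_filter.1 hθ').2, Int.cast_one, mul_one]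

end Section

section Trace

variable {K L : Type u} [Group K] [Fintype K] [Group L] [Fintype L] {q : ℕ}

theorem coeff_mapDomain_apply (ι : L →* K) (hι : Function.Injective ι)
    (f : MonoidAlgebra (loc M) L) (h : L) :
    (MonoidAlgebra.mapDomainRingHom (loc M) ι f).coeff (ι h) = f.coeff h := by
  have : (MonoidAlgebra.mapDomainRingHom (loc M) ι f).coeff = Finsupp.mapDomain ι f.coeff := by simp
  rw [this]
  exact Finsupp.mapDomain_apply hι _ h

theorem coeff_mapDomain_notMem (ι : L →* K) (f : MonoidAlgebra (loc M) L) {k : K}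
    (hk : k ∉ ι.range) : (MonoidAlgebra.mapDomainRingHom (loc M) ι f).coeff k = 0 := by
  have : (MonoidAlgebra.mapDomainRingHom (loc M) ι f).coeff = Finsupp.mapDomain ι f.coeff := by simp
  rw [this]
  exact Finsupp.mapDomain_notin_range f.coeff k (by rintro ⟨h, rfl⟩; exact hk ⟨h, rfl⟩)

theorem redAlg_toAlg_blockCoeff {b : Set (IrrCharacter L)} (hb : IsPBlock M b) :
    redAlg (toAlg (blockCoeff b) (blockCoeff_mem_loc hb)) = blockIdem hb := by
  apply MonoidAlgebra.ext
  ext g
  rw [coeff_redAlg, blockIdem, coeff_redFun]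
  exact congrArg red (Subtype.ext (coeff_toAlg _ _ g))

/-- **The twisted trace at a central section.** For a subgroup `L` equal to the centralizer of
the `p`-element `w` and an idempotent whose Brauer image at `w` lies in a uniform block of `L`,
the twisted trace is the coefficient of the block times the trace in the block. -/
theorem secTrace_eq_blockCoef_mul (hpM : (p : AlgInt) ∈ M) (ι : L →* K)
    (hι : Function.Injective ι) {w : K} (hw : ∃ k : ℕ, w ^ p ^ k = 1)
    (hrange : ∀ c, c ∈ ι.range ↔ c * w = w * c) {θ : K → ℂ} (hθ : IsLocClassFun M θ)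
    {e : MonoidAlgebra (loc M) K} (he : e * e = e) (hef : IsFixedBy (Subgroup.zpowers w) e)
    {d : MonoidAlgebra (loc M) L} (hd : d * d = d)
    (hde : ∀ h, (redAlg d).coeff h = (redAlg e).coeff (ι h))
    {b : Set (IrrCharacter L)} (hU : IsUniformBlock M p b q)
    (hbd : blockIdem hU.isBlock * redAlg d = redAlg d) {η : IrrCharacter L} (hη : η ∈ b) :
    secTrace θ w e =
      blockCoef b (fun h => θ (w * ι h)) * secTrace (η : L → ℂ) 1 d := by
  classical
  have hp : p.Prime := Fact.out
  set ε := toAlg (blockCoeff b) (blockCoeff_mem_loc hU.isBlock) with hε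
  have hεε : ε * ε = ε := toAlg_mul_self _ (conv_blockCoeff_self b)
  have hεd : ε * d = d * ε := by
    apply MonoidAlgebra.ext
    ext g
    rw [coeff_mul_eq_conv, coeff_mul_eq_conv]
    simp only [hε, coeff_toAlg]
    exact congrFun (conv_comm_of_invariant fun w _ g => isClassFunction_blockCoeff b g w) g
  obtain ⟨f, hf⟩ : ∃ f, f = MonoidAlgebra.mapDomainRingHom (loc M) ι (ε * d) := ⟨_, rfl⟩
  have hff : f * f = f := by
    rw [hf, ← map_mul, mul_assoc, ← mul_assoc d, ← hεd, mul_assoc ε d, hd, ← mul_assoc, hεε]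
  have hfix : IsFixedBy (Subgroup.zpowers w) f := by
    intro v hv k
    obtain ⟨j, rfl⟩ := Subgroup.mem_zpowers_iff.1 hv
    by_cases hk : k * w = w * k
    · rw [show w ^ j * k * (w ^ j)⁻¹ = k by
        rw [← ((show Commute k w from hk).zpow_right j).eq, mul_inv_cancel_right]]
    · rw [hf, coeff_mapDomain_notMem ι _ (mt (hrange k).1 hk),
        coeff_mapDomain_notMem ι _ fun h => hk ?_]
      have h1 : Commute (w ^ j * k * (w ^ j)⁻¹) w := (hrange _).1 h
      have h2 : w ^ j * (k * w) * (w ^ j)⁻¹ = w ^ j * (w * k) * (w ^ j)⁻¹ := by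
        calc w ^ j * (k * w) * (w ^ j)⁻¹ = w ^ j * k * (w ^ j)⁻¹ * w := by group
          _ = w * (w ^ j * k * (w ^ j)⁻¹) := h1.eq
          _ = _ := by group
      exact mul_left_cancel (mul_right_cancel h2)
  have hcutf : cut (Subgroup.centralizer (Subgroup.zpowers w : Set K) : Set K) (redAlg f) =
      cut (Subgroup.centralizer (Subgroup.zpowers w : Set K) : Set K) (redAlg e) := by
    apply MonoidAlgebra.ext
    ext k
    by_cases hk : k ∈ Subgroup.centralizer (Subgroup.zpowers w : Set K)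
    · rw [coeff_cut_of_mem _ hk, coeff_cut_of_mem _ hk]
      obtain ⟨h, rfl⟩ := (hrange k).2 ((mem_centralizer_zpowers_iff w k).1 hk)
      rw [← hde h, coeff_redAlg, hf, coeff_mapDomain_apply ι hι, ← coeff_redAlg, map_mul,
        redAlg_toAlg_blockCoeff hU.isBlock, hbd]
    · rw [coeff_cut_of_notMem _ hk, coeff_cut_of_notMem _ hk]
  rw [← secTau_eq hpM hθ hw he hef rfl, secTau_eq hpM hθ hw hff hfix hcutf, secTrace]
  -- the sum over the centralizer
  obtain ⟨F, hF⟩ : ∃ F : L → ℂ, F = fun h => θ (w * ι h) := ⟨_, rfl⟩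
  have hcomm : ∀ h : L, ι h * w = w * ι h := fun h => (hrange _).1 ⟨h, rfl⟩
  have hFcl : IsClassFunction L F := by
    intro g h
    simp only [hF]
    rw [← hθ.1 (w * ι g) (ι h), map_mul, map_mul, map_inv]
    congr 1
    rw [← mul_assoc, ← mul_assoc, ← hcomm h, mul_assoc (ι h) w]
  rw [← Finset.sum_subset (subset_univ (univ.image ι)) (fun k _ hk => by
      rw [hf, coeff_mapDomain_notMem ι _ (fun ⟨h, hh⟩ => hk (hh ▸ mem_image_of_mem ι (mem_univ h)))]
      simp),
    Finset.sum_image fun a _ c _ h => hι h,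
    Finset.sum_congr rfl (g := fun h => ((ε * d).coeff h : ℂ) * F h) fun h _ => by
      rw [hf, coeff_mapDomain_apply ι hι, hcomm, hF]]
  have h1 : ∑ h, ((ε * d).coeff h : ℂ) * F h = ∑ y, (d.coeff y : ℂ) * blockPart b F y := by
    simp only [coeff_mul_eq_conv, hε, coeff_toAlg, Blocks.conv, Finset.sum_mul,
      blockPart_eq_sum b hFcl, Finset.mul_sum]
    rw [Finset.sum_comm]
    conv_rhs => rw [Finset.sum_comm]
    refine Finset.sum_congr rfl fun g _ => ?_
    rw [← Equiv.sum_comp (Equiv.mulLeft g)]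
    refine Finset.sum_congr rfl fun y _ => ?_
    simp only [Equiv.coe_mulLeft, inv_mul_cancel_left]
    ring
  rw [h1, secTrace, Finset.mul_sum, ← sub_eq_zero, ← Finset.sum_sub_distrib]
  refine Eq.trans (Finset.sum_congr rfl fun y _ => ?_) (sum_idem_mul_regular_eq_zero hp hpM
    (a := fun g => (d.coeff g : ℂ)) (fun g => (d.coeff g).2)
    (funext fun g => by rw [← coeff_mul_eq_conv, hd])
    (θ := blockPart b F - blockCoef b F • (η : L → ℂ))
    (isClassFunction_sub (isClassFunction_blockPart b F) (isClassFunction_smul _ (isClassFunction_irr η)))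
    (fun g hg => by rw [Pi.sub_apply, Pi.smul_apply, smul_eq_mul, hU.blockPart_regular F hη hg,
      sub_self])
    (s := 1) (by simp [hp.ne_one]) fun g => by rw [one_mul, inv_one, mul_one])
  rw [hF, mul_one, Pi.sub_apply, Pi.smul_apply, smul_eq_mul]
  ring

end Trace

end CfsgLib.FreeColumns
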