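import Cfsg.Agent.Lib.Blocks.FreeColumns.LocGen
import Cfsg.Agent.Lib.Blocks.FreeColumns.Uniform
import Cfsg.Agent.Lib.Blocks.FreeCount
import Cfsg.Agent.Lib.Blocks.PairInduced
import Cfsg.Agent.Lib.Blocks.NilpotentPairs
import Cfsg.Agent.Lib.Blocks.Purity

/-!
# The blocks below a maximal pair with free inertial action

Below such a pair every nontrivial pair carries a uniform block, and the section coefficients
between two of these blocks are roots of unity.
-/

set_option autoImplicit false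
set_option linter.style.haveILetI false
set_option linter.unusedSectionVars false

namespace CfsgLib.FreeColumns

open Cfsg CfsgLib.Chars CfsgLib.Blocks CfsgLib.BlockOrth Finset
open scoped ComplexConjugate IntermediateField

universe u

variable {G : Type u} [Group G] [Fintype G] {M : Ideal AlgInt} [M.IsPrime] {p : ℕ} [Fact p.Prime]
  {B : Set (IrrCharacter G)} {P : Subgroup G}
  {c : Set (IrrCharacter (Subgroup.centralizer (P : Set G)))}

/-- Positive reals with product at least one and sum at most their number are all one. -/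
theorem eq_one_of_sum_le {ι : Type*} (S : Finset ι) {x : ι → ℝ} (h0 : ∀ i ∈ S, 0 < x i)
    (h1 : 1 ≤ ∏ i ∈ S, x i) (h2 : ∑ i ∈ S, x i ≤ S.card) : ∀ i ∈ S, x i = 1 := by
  intro i hi
  by_contra hne
  have hlt : ∑ j ∈ S, Real.log (x j) < ∑ j ∈ S, (x j - 1) :=
    Finset.sum_lt_sum (fun j hj => Real.log_le_sub_one_of_pos (h0 j hj))
      ⟨i, hi, Real.log_lt_sub_one_of_pos (h0 i hi) hne⟩
  rw [← Real.log_prod (fun j hj => (h0 j hj).ne'), Finset.sum_sub_distrib, Finset.sum_const,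
    nsmul_one] at hlt
  have := Real.log_nonneg h1
  linarith

/-- A nontrivial pair below the maximal pair carries a uniform block. -/
theorem isUniformBlock_below (hM : IsPModular p M) (hmax : IsMaximalBrauerPair p M B P c)
    (hab : ∀ x ∈ P, ∀ y ∈ P, x * y = y * x)
    (hfree : ∀ g ∈ stabPair ⟨P, c⟩, ∀ x ∈ P, x ≠ 1 → g * x * g⁻¹ = x →
      g ∈ Subgroup.centralizer (P : Set G))
    {Q : Subgroup G} [Fintype (Subgroup.centralizer (Q : Set G))] (hQ1 : Q ≠ ⊥)
    {f : Set (IrrCharacter (Subgroup.centralizer (Q : Set G)))}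
    (hle : Relation.ReflTransGen (NormalSubpairRel p M) (⟨Q, f⟩ : BrauerPairIdx G) ⟨P, c⟩) :
    IsUniformBlock M p f (Nat.card P) := by
  have hint : stabPair ⟨P, c⟩ ⊓ Subgroup.centralizer (Q : Set G) ≤
      Subgroup.centralizer (P : Set G) := by
    intro g hg
    obtain ⟨⟨q, hq⟩, hq1'⟩ := Subgroup.ne_bot_iff_exists_ne_one.1 hQ1
    refine hfree g hg.1 q (below_le hle hq) (fun h => hq1' (Subtype.ext h)) ?_
    rw [← Subgroup.mem_centralizer_iff.1 hg.2 q hq, mul_inv_cancel_right]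
  obtain ⟨e', hPC, hmax', htriv'⟩ := exists_maximal_local hM.2.2 (a := ⟨Q, f⟩) (c := ⟨P, c⟩)
    hmax hab hint hle
  have habC : ∀ x ∈ P.subgroupOf (Subgroup.centralizer (Q : Set G)),
      ∀ y ∈ P.subgroupOf (Subgroup.centralizer (Q : Set G)), x * y = y * x :=
    fun x hx y hy => Subtype.ext (hab _ hx _ hy)
  have hrank := blockRank_eq_one_of_trivial_inertia hM hmax' habC htriv'
  obtain ⟨t, ht, hcount⟩ := card_eq_rank_add_sections hM hmax' habC fun g hg _ _ _ _ => htriv' hg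
  rw [Subgroup.relIndex_eq_one.2 htriv', mul_one] at ht
  have hcP : Nat.card (P.subgroupOf (Subgroup.centralizer (Q : Set G))) = Nat.card P :=
    Nat.card_congr (Subgroup.subgroupOfEquivOfLe hPC).toEquiv
  refine isUniformBlock_of_rank_one hM.2.2 hmax'.1.2.1 hrank ?_ ?_
  · have h := hcount
    rw [hrank, add_comm] at h
    exact h.trans (ht.trans hcP)
  · rw [← hcP, card_defectGroup hM.2.2 hmax'.1.2.1 (isDefectGroup_of_maximal hM.2.2 hmax')]

/-- **The local coefficients are roots of unity.** -/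
theorem exists_pow_blockCoef_eq_one (hM : IsPModular p M) (hmax : IsMaximalBrauerPair p M B P c)
    (hab : ∀ x ∈ P, ∀ y ∈ P, x * y = y * x)
    (hfree : ∀ g ∈ stabPair ⟨P, c⟩, ∀ x ∈ P, x ≠ 1 → g * x * g⁻¹ = x →
      g ∈ Subgroup.centralizer (P : Set G))
    {Q R : Subgroup G} [Fintype (Subgroup.centralizer (Q : Set G))]
    [Fintype (Subgroup.centralizer (R : Set G))] (hQ1 : Q ≠ ⊥) (hQR : Q ≤ R) {w : G} (hwP : w ∈ P)
    (hR : R = Q ⊔ Subgroup.zpowers w)
    {f : Set (IrrCharacter (Subgroup.centralizer (Q : Set G)))}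
    (hf : Relation.ReflTransGen (NormalSubpairRel p M) (⟨Q, f⟩ : BrauerPairIdx G) ⟨P, c⟩)
    {g : Set (IrrCharacter (Subgroup.centralizer (R : Set G)))}
    (hg : Relation.ReflTransGen (NormalSubpairRel p M) (⟨R, g⟩ : BrauerPairIdx G) ⟨P, c⟩)
    (hwQ : w ∈ Subgroup.centralizer (Q : Set G))
    {θ : IrrCharacter (Subgroup.centralizer (Q : Set G))} (hθ : θ ∈ f) :
    ∃ n : ℕ, 0 < n ∧ blockCoef g (fun h => (θ : Subgroup.centralizer (Q : Set G) → ℂ)
      (⟨w, hwQ⟩ * Subgroup.inclusion (centralizer_antitone hQR) h)) ^ n = 1 := by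
  classical
  have hp : p.Prime := Fact.out
  have hpM := hM.2.2
  have hRP : R ≤ P := below_le hg
  have hRK : R ≤ Subgroup.centralizer (Q : Set G) :=
    hRP.trans (le_centralizer_of_abelian (hQR.trans hRP) hab)
  have hCK : Subgroup.centralizer (R : Set G) ≤ Subgroup.centralizer (Q : Set G) :=
    centralizer_antitone hQR
  have hR1 : R ≠ ⊥ := fun h => hQ1 (eq_bot_iff.2 (h ▸ hQR))
  have hfB := below_isBrauerPair hf hmax.1.1
  have hgB := below_isBrauerPair hg hmax.1.1
  have hn := isNormalSubpair_of_below (b := ⟨P, c⟩) hpM hmax.1.1 hf hg hQR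
    (hRK.trans (centralizer_le_normalizer' Q))
  have hpair := (isBrauerPairOf_rel_iff hpM hRK hCK hgB.1 hgB.2 hfB.2).2
    (IsNormalSubpair.mul_cut hpM hn)
  haveI := Fintype.ofFinite (Subgroup.centralizer
    (R.subgroupOf (Subgroup.centralizer (Q : Set G)) : Set (Subgroup.centralizer (Q : Set G))))
  have hind := isInducedBlock_centralizer_of_pair hpM hpair
  have hUg := (isUniformBlock_below hM hmax hab hfree hR1 hg)
  have hUb : IsUniformBlock M p (relBlock hRK hCK g) (Nat.card P) := hUg.pullback hpM (relIso hRK hCK)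
  have hUf := isUniformBlock_below hM hmax hab hfree hQ1 hf
  set x : Subgroup.centralizer (Q : Set G) := ⟨w, hwQ⟩ with hxdef
  have hH : ∀ a : Subgroup.centralizer (Q : Set G),
      a ∈ Subgroup.centralizer (R.subgroupOf (Subgroup.centralizer (Q : Set G)) :
        Set (Subgroup.centralizer (Q : Set G))) ↔ a * x = x * a := by
    intro a
    rw [mem_centralizer_subgroupOf_iff hRK, hR]
    constructor
    · intro h
      exact Subtype.ext (Subgroup.mem_centralizer_iff.1 h w
        ((le_sup_right : Subgroup.zpowers w ≤ Q ⊔ _) (Subgroup.mem_zpowers w))).symm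
    · intro h
      have hle : Q ⊔ Subgroup.zpowers w ≤ Subgroup.centralizer {(a : G)} := by
        refine sup_le (fun v hv => Subgroup.mem_centralizer_singleton_iff.2 ?_)
          (Subgroup.zpowers_le.2 (Subgroup.mem_centralizer_singleton_iff.2 ?_))
        · exact Subgroup.mem_centralizer_iff.1 a.2 v hv
        · exact (congrArg Subtype.val h).symm
      exact Subgroup.mem_centralizer_iff.2 fun v hv =>
        Subgroup.mem_centralizer_singleton_iff.1 (hle hv)
  obtain ⟨j, hj⟩ := exists_pow_orderOf_of_mem hmax.1.1.1 hwP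
  have hj' : orderOf x = p ^ j := by rw [← Subgroup.orderOf_coe]; exact hj
  have hxp : ∃ j, orderOf x = p ^ j := ⟨j, hj'⟩
  haveI : NeZero (p ^ j) := ⟨pow_ne_zero _ hp.ne_zero⟩
  have hN : x ^ p ^ j = 1 := hj' ▸ pow_orderOf_eq_one x
  have hcop : ∀ k ∈ unitsBelow (p ^ j), k.Coprime (orderOf x) := fun k hk => by
    rw [hj']; exact (mem_unitsBelow.1 hk).2
  haveI := irrFintype (Subgroup.centralizer (Q : Set G))
  haveI := irrFintype (Subgroup.centralizer
    (R.subgroupOf (Subgroup.centralizer (Q : Set G)) : Set (Subgroup.centralizer (Q : Set G))))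
  set b := relBlock hRK hCK g with hb
  let ξ : IrrCharacter (Subgroup.centralizer (Q : Set G)) → ℕ → ℂ := fun χ k =>
    secCoef b (x ^ k) (χ : Subgroup.centralizer (Q : Set G) → ℂ)
  have hσ : ∀ χ : IrrCharacter (Subgroup.centralizer (Q : Set G)), ∀ k ∈ unitsBelow (p ^ j),
      ∀ σ : ℂ ≃+* ℂ, (∀ z : ℂ, z ^ p ^ j = 1 → σ z = z ^ k) →
        σ (secCoef b x (χ : Subgroup.centralizer (Q : Set G) → ℂ)) = ξ χ k :=
    fun χ k hk σ hσ => secCoef_galois hH hN (hcop k hk) hσ χ
  have hne : ∀ χ ∈ f, secCoef b x (χ : Subgroup.centralizer (Q : Set G) → ℂ) ≠ 0 := by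
    intro χ hχ h0
    refine not_memLocalIdeal_contrib hpM hH hxp hind hχ hχ (hUf.degVal_eq hχ) (hUf.degVal_eq hχ) ?_
    rw [contrib_eq_secCoef hpM hUb, h0, zero_mul]
    exact MemLocalIdeal.zero'
  have hge : ∀ χ ∈ f, (1 : ℝ) ≤ ∏ k ∈ unitsBelow (p ^ j), ‖ξ χ k‖ ^ 2 ∧
      ∀ k ∈ unitsBelow (p ^ j), 0 < ‖ξ χ k‖ ^ 2 := by
    intro χ hχ
    have hnek : ∀ k ∈ unitsBelow (p ^ j), ξ χ k ≠ 0 := fun k hk h => by
      obtain ⟨σ, hσ'⟩ := CharApps.exists_galois_pow (p ^ j) (mem_unitsBelow.1 hk).2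
      exact hne χ hχ (σ.injective (by rw [hσ χ k hk σ hσ', h, map_zero]))
    obtain ⟨m, hm⟩ := exists_int_prod_conjugates (secCoef_mem_field hH hN χ)
      (secCoef_isIntegral hH χ) (ξ χ) (hσ χ)
    have hm0 : m ≠ 0 := fun h => by
      rw [h, Int.cast_zero] at hm
      exact Finset.prod_ne_zero_iff.2 hnek hm.symm
    refine ⟨?_, fun k hk => pow_pos (norm_pos_iff.2 (hnek k hk)) 2⟩
    rw [Finset.prod_pow, ← norm_prod, ← hm, Complex.norm_intCast, sq_abs]
    exact_mod_cast Int.add_one_le_iff.2 (sq_pos_of_ne_zero hm0)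
  have htot : ∀ k ∈ unitsBelow (p ^ j),
      ∑ χ ∈ univ.filter (· ∈ f), ‖ξ χ k‖ ^ 2 = (Nat.card P : ℝ) := by
    intro k hk
    have h := sum_contrib_self hM (centralizer_pow_of_coprime hH (hcop k hk))
      (exists_orderOf_pow_of_coprime hxp (hcop k hk)) hind
    simp only [contrib_eq_secCoef hpM hUb, Complex.mul_conj'] at h
    rw [hUb.rank hpM, hUb.pow, Nat.cast_one, mul_one] at h
    exact_mod_cast h
  have hall : ∀ χ ∈ f, ∀ k ∈ unitsBelow (p ^ j), ‖ξ χ k‖ ^ 2 = 1 := by
    have heq : ∀ χ ∈ univ.filter (· ∈ f),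
        ((unitsBelow (p ^ j)).card : ℝ) = ∑ k ∈ unitsBelow (p ^ j), ‖ξ χ k‖ ^ 2 := by
      refine (Finset.sum_eq_sum_iff_of_le fun χ hχ => CharApps.card_le_sum_of_one_le_prod _
        (fun k _ => by positivity) (hge χ (mem_filter.1 hχ).2).1).1 ?_
      rw [Finset.sum_comm (f := fun χ k => ‖ξ χ k‖ ^ 2), Finset.sum_congr rfl htot,
        Finset.sum_const, Finset.sum_const, hUf.card_filter]
      simp only [nsmul_eq_mul]
      ring
    exact fun χ hχ => eq_one_of_sum_le _ (hge χ hχ).2 (hge χ hχ).1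
      (heq χ (mem_filter.2 ⟨mem_univ _, hχ⟩)).ge
  obtain ⟨n, hn, hpow⟩ := exists_pow_eq_one (secCoef_mem_field (b := b) hH hN θ)
    (secCoef_isIntegral hH θ) fun k hk σ hσ' => by
      rw [hσ θ k hk σ hσ']
      exact (pow_eq_one_iff_of_nonneg (norm_nonneg _) two_ne_zero).1 (hall θ hθ k hk)
  refine ⟨n, hn, ?_⟩
  rw [← hpow, ← blockCoef_pullback (relIso hRK hCK) g]
  rfl

end CfsgLib.FreeColumns
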