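import Cfsg.Agent.Lib.Blocks.FreeColumns.Columns
import Cfsg.Agent.Lib.Blocks.FreeCoherence
import Cfsg.Agent.Lib.Blocks.CyclicStructure

/-!
# Counting characters of a block with abelian defect group and free abelian inertial action
-/

set_option autoImplicit false
set_option linter.style.haveILetI false
set_option linter.unusedSectionVars false

namespace CfsgLib.FreeColumns

open Cfsg CfsgLib.Chars CfsgLib.Blocks CfsgLib.BlockOrth Finset
open scoped ComplexConjugate

universe u

variable {G : Type u} [Group G] [Fintype G] {M : Ideal AlgInt} [M.IsPrime] {p : ℕ} [Fact p.Prime]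
  {B : Set (IrrCharacter G)} {P : Subgroup G}
  {c : Set (IrrCharacter (Subgroup.centralizer (P : Set G)))}

/-- The Diophantine system of the structure when the inertial index is at most three. -/
theorem small_index {ι : Type*} (S : Finset ι) (a : ι → ℤ) (ha : ∀ i ∈ S, a i ≠ 0) {t : ℕ}
    (ht : 1 ≤ t) {r ε : ℤ} (hε : ε = 1 ∨ ε = -1) (he : S.card ≠ 0) {e : ℕ} (he3 : e ≤ 3)
    (hlt : S.card < e)
    (hsum : (∑ i ∈ S, a i * a i) + (t : ℤ) * r * r - 2 * ε * r = (e : ℤ))
    (hnn : 0 ≤ (t : ℤ) * r * r - 2 * ε * r) :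
    ∃ X : ℕ, 1 ≤ X ∧ X ≤ 2 ∧ t = X + 2 ∧ X + S.card = e := by
  have hge : ∀ i ∈ S, (1 : ℤ) ≤ a i * a i := fun i hi =>
    Int.add_one_le_iff.2 (mul_self_pos.2 (ha i hi))
  have hsumge : (S.card : ℤ) ≤ ∑ i ∈ S, a i * a i := by
    simpa using Finset.sum_le_sum hge
  -- a square that is not one is at least four
  have hsum' : ∑ i ∈ S, a i * a i = (S.card : ℤ) ∨ (S.card : ℤ) + 3 ≤ ∑ i ∈ S, a i * a i := by
    by_cases hall : ∀ i ∈ S, a i * a i = 1
    · left
      rw [Finset.sum_congr rfl hall]
      simp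
    · right
      push Not at hall
      obtain ⟨i, hi, hne⟩ := hall
      classical
      rw [← Finset.add_sum_erase _ _ hi]
      have h1 : ((S.erase i).card : ℤ) ≤ ∑ j ∈ S.erase i, a j * a j := by
        simpa using Finset.sum_le_sum fun j hj => hge j (Finset.mem_of_mem_erase hj)
      have h2 : (S.card : ℤ) = (S.erase i).card + 1 := by
        rw [← Finset.card_erase_add_one hi]; push_cast; rfl
      have h3 : 4 ≤ a i * a i := by
        rcases lt_trichotomy (a i) 0 with h | h | h
        · have : a i ≤ -2 := by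
            by_contra h'
            exact hne (by rw [show a i = -1 by omega]; norm_num)
          nlinarith
        · exact absurd h (ha i hi)
        · have : 2 ≤ a i := by
            by_contra h'
            exact hne (by rw [show a i = 1 by omega]; norm_num)
          nlinarith
      linarith
  have he3' : (e : ℤ) ≤ 3 := by exact_mod_cast he3
  have hs1 : (1 : ℤ) ≤ S.card := by exact_mod_cast Nat.pos_of_ne_zero he
  rcases hsum' with h | h
  swap
  · exfalso; linarith
  rw [h] at hsum
  obtain ⟨X, hX⟩ : ∃ X : ℤ, X = (t : ℤ) * r * r - 2 * ε * r := ⟨_, rfl⟩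
  have hX1 : 1 ≤ X := by
    have : (S.card : ℤ) < e := by exact_mod_cast hlt
    omega
  have hX2 : X ≤ 2 := by omega
  have htZ : (1 : ℤ) ≤ t := by exact_mod_cast ht
  -- only `r = ±1` is possible
  have h4 : r * r ≤ (t : ℤ) * r * r := by nlinarith [mul_self_nonneg r]
  have hr : r * r = 1 := by
    rcases (show r ≤ -3 ∨ r = -2 ∨ r = -1 ∨ r = 0 ∨ r = 1 ∨ r = 2 ∨ 3 ≤ r by omega) with
      h | h | h | h | h | h | h
    · rcases hε with hε | hε <;> subst hε <;> nlinarith
    · exfalso; subst h; rcases hε with hε | hε <;> subst hε <;> simp at hX <;> omega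
    · subst h; norm_num
    · exfalso; subst h; simp at hX; omega
    · subst h; norm_num
    · exfalso; subst h; rcases hε with hε | hε <;> subst hε <;> simp at hX <;> omega
    · rcases hε with hε | hε <;> subst hε <;> nlinarith
  refine ⟨X.toNat, by omega, by omega, ?_, by omega⟩
  have hεr : ε * r = 1 ∨ ε * r = -1 := by
    rcases hε with h | h <;> subst h <;>
      rcases mul_self_eq_one_iff.1 hr with h | h <;> subst h <;> norm_num
  have hXt : X = t - 2 * (ε * r) := by rw [hX, mul_assoc (t : ℤ), hr]; ring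
  rcases hεr with h | h <;> rw [h] at hXt <;> omega

/-- **The counts for a free inertial action.** -/
theorem free_counts (hM : IsPModular p M) (hmax : IsMaximalBrauerPair p M B P c)
    (hab : ∀ x ∈ P, ∀ y ∈ P, x * y = y * x)
    (hfree : ∀ g ∈ stabPair ⟨P, c⟩, ∀ x ∈ P, x ≠ 1 → g * x * g⁻¹ = x →
      g ∈ Subgroup.centralizer (P : Set G)) (hP1 : P ≠ ⊥) {e : ℕ}
    (he : (Subgroup.centralizer (P : Set G)).relIndex (stabPair ⟨P, c⟩) = e) :
    ∃ t : ℕ, t * e + 1 = Nat.card P ∧ Nat.card B = blockRank p B + t ∧ blockRank p B ≤ e ∧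
      (e ≤ 3 → blockRank p B = e) := by
  classical
  have hp : p.Prime := Fact.out
  have hpM := hM.2.2
  haveI := irrFintype G
  haveI : Fintype P := Fintype.ofFinite P
  haveI := irrFintype P
  haveI : Fintype (Subgroup.centralizer (P : Set G)) := Fintype.ofFinite _
  have hA : ∀ a b : P, a * b = b * a := fun a b => Subtype.ext (hab _ a.2 _ b.2)
  have hPcard : 1 < Nat.card P := by
    rw [Finite.one_lt_card_iff_nontrivial]
    exact (Subgroup.nontrivial_iff_ne_bot P).2 hP1
  haveI : Nontrivial P := Finite.one_lt_card_iff_nontrivial.1 hPcard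
  obtain ⟨ξ, hgen, horth, hne, hdeg⟩ := exists_free_columns hM hmax hab hfree hP1
  have hifree := inertia_eq_one_of_fixed (c := c) hfree
  obtain ⟨y, ε, r, a, hε, hy, hval, ha, ht, hc, -⟩ := free_coherence hA hPcard (inertia c) hifree ξ
    hgen (fun u v hu hv => by rw [horth u v hu hv]; congr!)
    (fun i => ⟨_, (exists_ne (1 : P)).choose_spec, hne i _ (exists_ne (1 : P)).choose_spec⟩)
    (fun i => charDegree (i.1 : G → ℂ)) (fun i => Nat.pos_of_ne_zero (irr_charDegree_ne_zero i.1))
    (fun u hu => by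
      rw [← hdeg u hu]
      exact Finset.sum_congr rfl fun i _ => by rw [charDegree_cast])
  haveI := Fintype.ofFinite (inertia c)
  replace hval : ∀ l : IrrCharacter P, l ≠ principal P → ∀ u : P, u ≠ 1 →
      ξ (y l) u = (r : ℂ) + (ε : ℂ) * ∑ σ : inertia c, (l : P → ℂ) ((σ : MulAut P) u) :=
    fun l hl u hu => by convert hval l hl u hu using 4; ext; simp
  rw [card_inertia, he] at ht hc
  have he0 : e ≠ 0 := he ▸ card_inertia c ▸ Nat.card_pos.ne'
  obtain ⟨t, ht'⟩ : ∃ t, t = Nat.card {i : {χ : IrrCharacter G // χ ∈ B} //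
      ∃ l : IrrCharacter P, l ≠ principal P ∧ y l = i} := ⟨_, rfl⟩
  rw [← ht'] at ht hc
  have ht0 : t ≠ 0 := fun h => by rw [h, zero_mul, zero_add] at ht; omega
  obtain ⟨S, hS⟩ : ∃ S : Finset {χ : IrrCharacter G // χ ∈ B},
      S = univ.filter fun i => ∀ l : IrrCharacter P, l ≠ principal P → y l ≠ i := ⟨_, rfl⟩
  replace hc : (∑ i ∈ S, a i * a i) + (t : ℤ) * r * r - 2 * ε * r = (e : ℤ) := by
    rw [hS]; convert hc using 4
    ext i; simp only [Finset.mem_filter, Finset.mem_univ, true_and]
  have hcardB : Nat.card B = S.card + t := by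
    rw [ht', Nat.card_eq_fintype_card (α := {i : {χ : IrrCharacter G // χ ∈ B} // _}),
      Fintype.card_subtype,
      show Nat.card B = Fintype.card {χ : IrrCharacter G // χ ∈ B} from Nat.card_eq_fintype_card,
      ← Finset.card_univ, hS,
      ← Finset.card_filter_add_card_filter_not (s := univ)
        (fun i : {χ : IrrCharacter G // χ ∈ B} => ∀ l : IrrCharacter P, l ≠ principal P → y l ≠ i)]
    simp only [not_forall, not_not, exists_prop]
  obtain ⟨t', ht1, hcount⟩ := card_eq_rank_add_sections hM hmax hab hfree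
  rw [he, ← ht] at ht1
  obtain rfl : t' = t := Nat.eq_of_mul_eq_mul_right (Nat.pos_of_ne_zero he0) (Nat.succ.inj ht1)
  have hrank : blockRank p B = S.card := by omega
  have hai : ∀ i ∈ S, a i ≠ 0 := fun i hi =>
    (ha i (by rw [hS] at hi; exact (mem_filter.1 hi).2)).1
  have hl0 : ∃ l : IrrCharacter P, l ≠ principal P := by
    obtain ⟨⟨i, l, hl, -⟩⟩ : Nonempty {i : {χ : IrrCharacter G // χ ∈ B} //
        ∃ l : IrrCharacter P, l ≠ principal P ∧ y l = i} :=
      (Nat.card_ne_zero.1 (ht' ▸ ht0)).1
    exact ⟨l, hl⟩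
  have hnn : 0 ≤ (t' : ℤ) * r * r - 2 * ε * r := by
    rcases (show t' = 1 ∨ 2 ≤ t' by omega) with h1 | h1
    · obtain ⟨l, hl⟩ := hl0
      obtain ⟨u, hu⟩ := exists_ne (1 : P)
      -- a single orbit: the orbit sum is `-1`
      have hall : ∀ m : IrrCharacter P, m ≠ principal P →
          ∃ σ : inertia c, pullIrr (σ : MulAut P) l = m := by
        intro m hm
        refine (hy l m hl hm).1 ?_
        haveI := (Nat.card_eq_one_iff_unique.1 (ht'.symm.trans h1)).1
        exact congrArg Subtype.val (Subsingleton.elim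
          (⟨y l, l, hl, rfl⟩ : {i : {χ : IrrCharacter G // χ ∈ B} //
            ∃ l : IrrCharacter P, l ≠ principal P ∧ y l = i}) ⟨y m, m, hm, rfl⟩)
      have hne' : ∀ σ : inertia c, pullIrr (σ : MulAut P) l ≠ principal P := fun σ =>
        pullIrr_ne_principal hl _
      have hbij : Function.Bijective fun σ : inertia c => (⟨pullIrr (σ : MulAut P) l, hne' σ⟩ :
          {m : IrrCharacter P // m ≠ principal P}) := by
        rw [Fintype.bijective_iff_surjective_and_card]
        refine ⟨fun m => (hall m.1 m.2).imp fun σ hσ => Subtype.ext hσ, ?_⟩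
        rw [Fintype.card_subtype_compl, Fintype.card_subtype_eq, ← Nat.card_eq_fintype_card,
          ← Nat.card_eq_fintype_card, card_inertia, he, card_irrCharacter_of_comm hA]
        rw [h1, one_mul] at ht
        omega
      have hsum1 : ∑ σ : inertia c, (l : P → ℂ) ((σ : MulAut P) u) = -1 := by
        have hsum := sum_degree_mul (G := P) u
        simp only [irr_one_of_comm hA, one_mul, if_neg hu] at hsum
        rw [← Finset.sum_filter_add_sum_filter_not univ (fun m => m ≠ principal P),
          show univ.filter (fun m : IrrCharacter P => ¬m ≠ principal P) = {principal P} by ext; simp,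
          Finset.sum_singleton, principal_apply, Finset.sum_subtype (p := fun m => m ≠ principal P)
            (univ.filter fun m : IrrCharacter P => m ≠ principal P) (fun m => by simp)] at hsum
        rw [← eq_neg_of_add_eq_zero_left hsum]
        exact Fintype.sum_equiv (Equiv.ofBijective _ hbij) _ _ fun σ => rfl
      have hre : r - ε ≠ 0 := fun h => by
        refine hne (y l) u hu ?_
        rw [hval l hl u hu, hsum1]
        have : (r : ℂ) - ε = 0 := by exact_mod_cast h
        linear_combination this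
      have h2 : 1 ≤ (r - ε) * (r - ε) := Int.add_one_le_iff.2 (mul_self_pos.2 hre)
      have hn1 : (t' : ℤ) = 1 := by exact_mod_cast h1
      have hε2 : ε * ε = 1 := by rcases hε with h | h <;> simp [h]
      rw [hn1]
      nlinarith
    · have h2 : (2 : ℤ) ≤ t' := by exact_mod_cast h1
      have h3 : 0 ≤ r * r - ε * r := by
        rcases hε with h | h <;> subst h <;> rcases le_or_gt r 0 with hr | hr <;>
          rcases eq_or_ne r 0 with h0 | h0 <;> first | (subst h0; norm_num) | nlinarith
      nlinarith [mul_self_nonneg r]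
  have hle : S.card ≤ e := by
    have h1 : ∑ i ∈ S, (1 : ℤ) ≤ ∑ i ∈ S, a i * a i :=
      Finset.sum_le_sum fun i hi => Int.add_one_le_iff.2 (mul_self_pos.2 (hai i hi))
    rw [Finset.sum_const, nsmul_eq_mul, mul_one] at h1
    omega
  refine ⟨t', ht, hcount, hrank ▸ hle, fun he3 => ?_⟩
  by_contra hne3
  have hl1 : S.card ≠ 0 := by
    rw [← hrank]
    have := one_le_blockRank (p := p) hmax.1.2.1
    omega
  obtain ⟨X, hX1, hX2, htX, hXe⟩ := small_index S a hai (by omega) hε hl1 he3
    (lt_of_le_of_ne hle (hrank ▸ hne3)) hc hnn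
  -- the defect group then has order seven, ten or thirteen
  obtain ⟨k, hk⟩ := IsPGroup.iff_card.1 (hmax.1.1.1 : IsPGroup p P)
  have hq : Nat.card P = 7 ∨ Nat.card P = 10 ∨ Nat.card P = 13 := by
    have hs : 1 ≤ S.card := Nat.pos_of_ne_zero hl1
    rw [← ht, htX]
    interval_cases X <;> interval_cases e <;> omega
  have hcyc : IsCyclic P := by
    rcases hq with h | h | h
    · haveI : Fact (Nat.Prime 7) := ⟨by norm_num⟩
      exact isCyclic_of_prime_card h
    · exfalso
      rw [hk] at h
      have hk0 : k ≠ 0 := by rintro rfl; simp at h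
      rcases (Nat.Prime.dvd_mul hp).1 (show p ∣ 2 * 5 by rw [show 2 * 5 = p ^ k from h.symm]; exact dvd_pow_self p hk0) with h' | h'
      · rw [(Nat.prime_dvd_prime_iff_eq hp Nat.prime_two).1 h'] at h
        have : 5 ∣ 2 := (Nat.Prime.dvd_of_dvd_pow (by norm_num) (⟨2, h⟩ : 5 ∣ 2 ^ k))
        omega
      · rw [(Nat.prime_dvd_prime_iff_eq hp (by norm_num)).1 h'] at h
        have : 2 ∣ 5 := (Nat.Prime.dvd_of_dvd_pow Nat.prime_two (⟨5, h⟩ : 2 ∣ 5 ^ k))
        omega
    · haveI : Fact (Nat.Prime 13) := ⟨by norm_num⟩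
      exact isCyclic_of_prime_card h
  obtain ⟨Z, fZ, L⟩ := exists_cycLocal hM hmax hcyc hP1
  obtain ⟨Y, δ, δ₀, -, -, -, hrk, -⟩ := L.dade_structure
  exact hne3 (hrk.trans he)

end CfsgLib.FreeColumns
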